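import Cfsg.Agent.ConwayType.Locals.Three.Section
import Cfsg.Agent.ConwayType.Locals.DodOrbit

/-!
The pair centralizer modulo its radical.
-/

set_option autoImplicit false
set_option maxRecDepth 100000
set_option maxHeartbeats 1000000
set_option linter.unusedSectionVars false
set_option linter.style.haveILetI false

namespace Cfsg.Lib.ConwayType

open Subgroup Cfsg.Lib.ConwayType.Code Cfsg.Lib.ConwayType.Tri

universe u

variable {G : Type u} [Group G] [Finite G] {z : G}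

namespace Pt

variable (p : Pt z)

theorem T_perp {t : G} (ht : p.T t) {w : ℕ} (hw : w ∈ W) : w < 256 ∧ pB 1 w = false :=
  ⟨(W_lt w hw).1, (W_lt w hw).2.1⟩

/-- The action of the pair centralizer on the section. -/
noncomputable def phi : ↥p.Tg →* Equiv.Perm WT where
  toFun t :=
    { toFun := fun w => ⟨sa (p.toCtx.m t) w, sa_mem _ _⟩
      invFun := fun w => ⟨sa (p.toCtx.m t)⁻¹ w, sa_mem _ _⟩
      left_inv := fun w => Subtype.ext (sa_inv (p.T_fix (p.mem_Tg.mp t.2)) w.2).2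
      right_inv := fun w => Subtype.ext (sa_inv (p.T_fix (p.mem_Tg.mp t.2)) w.2).1 }
  map_one' := Equiv.ext fun w => Subtype.ext (by
    show sa (p.toCtx.m ((1 : ↥p.Tg) : G)) w = (w : ℕ)
    rw [Subgroup.coe_one, p.toCtx.m_one, sa_one w.2])
  map_mul' a b := Equiv.ext fun w => Subtype.ext (by
    show sa (p.toCtx.m ((a * b : ↥p.Tg) : G)) w = sa (p.toCtx.m a) (sa (p.toCtx.m b) w)
    obtain ⟨hl, hp⟩ := p.T_perp (p.mem_Tg.mp a.2) w.2
    rw [Subgroup.coe_mul, p.toCtx.m_mul (p.mem_Tg.mp a.2).1 (p.mem_Tg.mp b.2).1,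
      sa_mul (p.T_fix (p.mem_Tg.mp a.2)) (p.T_fix (p.mem_Tg.mp b.2)) hl hp])

theorem phi_apply (t : ↥p.Tg) (w : WT) : (p.phi t w : ℕ) = sa (p.toCtx.m t) w := rfl

/-- The radical of the pair centralizer. -/
noncomputable def R0 : Subgroup G := p.phi.ker.map p.Tg.subtype

theorem R0_le : p.R0 ≤ p.Tg := map_subtype_le _

theorem mem_R0 {t : G} (ht : t ∈ p.Tg) : t ∈ p.R0 ↔ p.phi ⟨t, ht⟩ = 1 := by
  constructor
  · rintro ⟨u, hu, e⟩
    rwa [show (⟨t, ht⟩ : ↥p.Tg) = u from Subtype.ext e.symm]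
  · exact fun h => ⟨_, h, rfl⟩

theorem phi_congr {a b : ↥p.Tg} : p.phi a = p.phi b ↔ (a : G)⁻¹ * b ∈ p.R0 := by
  rw [show (a : G)⁻¹ * b = ((a⁻¹ * b : ↥p.Tg) : G) from rfl, p.mem_R0 (a⁻¹ * b).2,
    show (⟨((a⁻¹ * b : ↥p.Tg) : G), (a⁻¹ * b).2⟩ : ↥p.Tg) = a⁻¹ * b from rfl, map_mul, map_inv, inv_mul_eq_one]

theorem A_R0 {a : G} (ha : p.A a) : a ∈ p.R0 :=
  (p.mem_R0 (p.mem_Tg.mpr (p.A_T ha))).mpr (Equiv.ext fun w => Subtype.ext (by
    rw [phi_apply]
    show sa (p.toCtx.m a) w = (w : ℕ)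
    rw [(p.toCtx.m_one_iff (p.A_T ha).1).mpr ha.1, sa_one w.2]))

theorem R_R0 {r : G} (hr : p.R r) : r ∈ p.R0 :=
  (p.mem_R0 (p.mem_Tg.mpr (p.R_T hr))).mpr (Equiv.ext fun w => Subtype.ext (p.R_trivial hr w w.2))

/-- Commutators of the two parts lie in the four-group. -/
theorem A_R_comm {a r : G} (ha : p.A a) (hr : p.R r) : p.InE (a * r * a⁻¹ * r⁻¹) := by
  refine p.R_cap (p.R_mul (p.R_norm (p.A_T ha) hr) (p.R_inv hr)) ?_
  rw [show a * r * a⁻¹ * r⁻¹ = a * (r * a⁻¹ * r⁻¹) by group]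
  exact mul_mem ha.1 (p.toCtx.norm hr.2 (inv_mem ha.1))

theorem A_A_comm {a b : G} (ha : p.A a) (hb : p.A b) : p.InE (a * b * a⁻¹ * b⁻¹) := by
  refine p.α_zero (p.A_mul (p.A_mul (p.A_mul ha hb) (p.A_inv ha)) (p.A_inv hb)) ?_
  rw [p.α_mul (p.A_mul (p.A_mul ha hb) (p.A_inv ha)) (p.A_inv hb), p.α_mul (p.A_mul ha hb) (p.A_inv ha),
    p.α_mul ha hb, p.α_inv ha, p.α_inv hb]
  simp [Nat.xor_comm (p.α a) (p.α b)]

theorem R_R_comm {a b : G} (ha : p.R a) (hb : p.R b) : p.InE (a * b * a⁻¹ * b⁻¹) := by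
  have h := p.R_mul (p.R_mul (p.R_mul ha hb) (p.R_inv ha)) (p.R_inv hb)
  refine p.R_cap h ((p.β_zero h).mp ?_)
  have hinv : ∀ {r : G}, p.R r → p.β r⁻¹ = p.β r := fun {r} hr => by
    have := p.β_mul (p.R_inv hr) hr
    rw [inv_mul_cancel, p.β_E (Or.inl rfl)] at this
    exact xor_eq_zero'.mp this.symm
  rw [p.β_mul (p.R_mul (p.R_mul ha hb) (p.R_inv ha)) (p.R_inv hb), p.β_mul (p.R_mul ha hb) (p.R_inv ha),
    p.β_mul ha hb, hinv ha, hinv hb]
  simp [Nat.xor_comm (p.β a) (p.β b)]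

/-- The commutator of a product with an element, modulo the four-group. -/
theorem comm_mul_E {a r u : G} (ha : p.T a) (h1 : p.InE (a * u * a⁻¹ * u⁻¹))
    (h2 : p.InE (r * u * r⁻¹ * u⁻¹)) : p.InE (a * r * u * (a * r)⁻¹ * u⁻¹) := by
  have hc := p.E_central h2 ha
  rw [show a * r * u * (a * r)⁻¹ * u⁻¹ = a * (r * u * r⁻¹ * u⁻¹) * a⁻¹ * (a * u * a⁻¹ * u⁻¹) by group, hc.eq,
    mul_inv_cancel_right]
  exact p.E_cases h2 _ h1

theorem card_WT : Nat.card WT = 64 := by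
  rw [Nat.card_congr (Equiv.subtypeEquivRight fun w => (List.mem_toFinset).symm), Nat.card_eq_finsetCard]
  decide +kernel

/-- The radical is at least as large as a product of the two parts. -/
theorem R0_param : ∃ S : Set G, Nat.card S = 2 ^ 14 ∧ S ⊆ (p.R0 : Set G) ∧
    ∀ x ∈ S, ∃ a r, p.A a ∧ p.R r ∧ x = a * r := by
  classical
  choose qa hqa using fun w : WT => p.α_surj w.2
  choose rb hrb using fun w : WT => p.β_surj w.2
  let F : (WT × WT) × (Bool × Bool) → G := fun u => qa u.1.1 * (rb u.1.2 * p.eOf u.2)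
  have hR : ∀ u : (WT × WT) × (Bool × Bool), p.R (rb u.1.2 * p.eOf u.2) := fun u =>
    p.R_mul (hrb u.1.2).1 (p.E_R (p.eOf_spec u.2).1)
  have hF : Function.Injective F := by
    rintro ⟨⟨a, b⟩, e⟩ ⟨⟨a', b'⟩, e'⟩ h
    have A1 := hqa a
    have A2 := hqa a'
    have B1 := hrb b
    have B2 := hrb b'
    have hq : (qa a)⁻¹ * qa a' ∈ p.Q := mul_mem (inv_mem A1.1.1) A2.1.1
    have hid : (qa a)⁻¹ * qa a' = rb b * p.eOf e * (rb b' * p.eOf e')⁻¹ := by
      rw [eq_mul_inv_iff_mul_eq, mul_assoc]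
      show (qa a)⁻¹ * F ((a', b'), e') = _
      rw [← h]; simp [F]
    have hR' := p.R_mul (hR ((a, b), e)) (p.R_inv (hR ((a', b'), e')))
    rw [hid] at hq
    have hE := p.R_cap hR' hq
    have h0 := p.β_E hE
    have hb : b = b' := by
      refine Subtype.ext ?_
      have hcancel := p.β_mul hR' (hR ((a', b'), e'))
      rw [inv_mul_cancel_right, h0, Nat.zero_xor, p.β_mul B1.1 (p.E_R (p.eOf_spec e).1),
        p.β_mul B2.1 (p.E_R (p.eOf_spec e').1), p.β_E (p.eOf_spec e).1, p.β_E (p.eOf_spec e').1, Nat.xor_zero,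
        Nat.xor_zero, B1.2, B2.2] at hcancel
      exact hcancel
    have ha : a = a' := by
      refine Subtype.ext ?_
      rw [← hid] at hE
      have := p.α_mul A1.1 (p.E_A hE)
      rw [mul_inv_cancel_left, p.α_E hE, Nat.xor_zero, A1.2, A2.2] at this
      exact this.symm
    subst hb ha
    have he : p.eOf e = p.eOf e' := mul_left_cancel (mul_left_cancel h)
    obtain ⟨-, e1, e2⟩ := p.eOf_spec e
    obtain ⟨-, e1', e2'⟩ := p.eOf_spec e'
    rw [he] at e1 e2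
    exact Prod.ext rfl (Prod.ext (e1.symm.trans e1') (e2.symm.trans e2'))
  refine ⟨Set.range F, ?_, ?_, ?_⟩
  · rw [Nat.card_range_of_injective hF, Nat.card_prod, Nat.card_prod, card_WT, Nat.card_eq_fintype_card,
      Fintype.card_prod, Fintype.card_bool]
    norm_num
  · rintro _ ⟨u, rfl⟩
    exact mul_mem (p.A_R0 (hqa u.1.1).1) (p.R_R0 (hR u))
  · rintro _ ⟨u, rfl⟩
    exact ⟨_, _, (hqa u.1.1).1, hR u, rfl⟩

end Pt

namespace Fr

variable (p : Fr z)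

/-- The image on the section, the order of the radical and the radical as a product. -/
theorem phi_facts : p.toPt.phi.range = hom8.range ∧ Nat.card ↥p.toPt.R0 = 2 ^ 14 ∧
    ∀ x ∈ p.toPt.R0, ∃ a r, p.toPt.A a ∧ p.toPt.R r ∧ x = a * r := by
  classical
  obtain ⟨S, hS, hle, hpar⟩ := p.toPt.R0_param
  have h14 : 2 ^ 14 ≤ Nat.card ↥p.toPt.R0 := hS ▸ Nat.card_mono (Set.toFinite _) hle
  have hker : Nat.card ↥p.toPt.phi.ker = Nat.card ↥p.toPt.R0 :=
    (card_map_of_injective p.toPt.Tg.subtype_injective).symm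
  have hT := p.toPt.phi.ker.card_eq_card_quotient_mul_card_subgroup
  rw [Nat.card_congr (QuotientGroup.quotientKerEquivRange p.toPt.phi).toEquiv, hker] at hT
  have hsub : hom8.range ≤ p.toPt.phi.range := by
    rw [MonoidHom.range_eq_map, ← gen8_closure, MonoidHom.map_closure, closure_le]
    rintro _ ⟨_, ⟨k, rfl⟩, rfl⟩
    have hk : ∀ i ∈ [k.val], i < g2.length := fun i hi => by
      rw [List.mem_singleton.mp hi]; exact k.isLt
    obtain ⟨h, hh, h1, hcd⟩ := exists_stab [k.val] hk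
    obtain ⟨t, ht, rfl⟩ := p.toPt.T_lift hh h1
    refine ⟨⟨t, p.toPt.mem_Tg.mpr ht⟩, Equiv.ext fun w => Subtype.ext ?_⟩
    rw [Pt.phi_apply, hom8_gen, sa, hcd _ (W_lt _ w.2).1]
  have hA8 : Nat.card ↥hom8.range = 20160 := by
    rw [← Nat.card_congr (MonoidHom.ofInjective hom8_inj).toEquiv, Nat.card_eq_fintype_card, card_alternatingGroup,
      Fintype.card_fin]
    rfl
  have h1 : 20160 ≤ Nat.card ↥p.toPt.phi.range := hA8 ▸ card_le_of_le hsub
  have hle' := p.card_Tg_le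
  have hr : Nat.card ↥p.toPt.phi.range ≤ 20160 := by nlinarith
  have h0 : Nat.card ↥p.toPt.R0 = 2 ^ 14 := by nlinarith
  refine ⟨(eq_of_le_of_card_ge hsub (hA8.symm ▸ hr)).symm, h0, fun x hx => hpar x ?_⟩
  have : S = (p.toPt.R0 : Set G) := Set.eq_of_subset_of_ncard_le hle (by
    rw [← Nat.card_coe_set_eq, ← Nat.card_coe_set_eq, hS]; exact h0.le) (Set.toFinite _)
  rwa [this]

theorem R0_pGroup : IsPGroup 2 ↥p.toPt.R0 := IsPGroup.of_card p.phi_facts.2.1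

theorem phi_ev {x : ℕ} (hx : x < 2048) (w : WT) :
    (p.toPt.phi ⟨p.ev x, p.toPt.mem_Tg.mpr (p.ev_T x)⟩ w : ℕ) =
      nr (rho (2 * (x / 32 % 8)) (act (tWord (x / 256)) w)) := by
  rw [Pt.phi_apply, sa, p.ev_m hx (W_lt _ w.2).1]

end Fr

end Cfsg.Lib.ConwayType
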