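import Cfsg.Agent.ConwayType.Locals.Three.Elem
import Cfsg.Agent.ConwayType.Locals.Three.Radical

/-!
The centralizer of the element of order three and a fixed dodecad, as a list of matrices.
-/

set_option autoImplicit false
set_option maxRecDepth 100000
set_option maxHeartbeats 1000000
set_option linter.unusedSectionVars false
set_option linter.style.haveILetI false

namespace Cfsg.Lib.ConwayType

open Subgroup Cfsg.Lib.Golay Cfsg.Lib.ConwayType.Local Cfsg.Lib.ConwayType.Dod
open Cfsg.Lib.PermCert (PP)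

universe u

variable {G : Type u} [Group G] [Finite G] {z : G}

namespace Fr

variable (p : Fr z)

theorem pair_card : Nat.card ↥(p.Mt ⊓ centralizer ({p.ev 44} : Set G)) = 240 * 2048 := by
  obtain ⟨out, hg, hout⟩ := pair_transitive
  obtain ⟨h792, h44, h44'⟩ := Tri.pair_count
  have h := (p.orbit_coords p.Mt 44 ((List.range 2048).filter fun x => plain x && plain (x ^^^ 68))
    (fun x hx => List.mem_range.mp (List.mem_filter.mp hx).1) (List.nodup_range.filter _) fun m hm => by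
      obtain ⟨y, hy, e⟩ := p.coord_conj hm.1 (x := 44) (by norm_num)
      have h68 : m * p.ev 68 * m⁻¹ = p.ev 68 := mul_inv_eq_iff_eq_mul.mpr (p.mem_Ht.mp hm.2)
      have e' : m * p.ev (44 ^^^ 68) * m⁻¹ = p.ev (y ^^^ 68) := by
        rw [p.ev_xor, p.ev_xor, show m * (p.ev 44 * p.ev 68) * m⁻¹ = m * p.ev 44 * m⁻¹ * (m * p.ev 68 * m⁻¹) by group,
          e, h68]
      have hy' : y ^^^ 68 < 2048 := Nat.xor_lt_two_pow (n := 11) hy (by norm_num)
      have keep : ∀ a b, a < 2048 → b < 2048 → m * p.ev a * m⁻¹ = p.ev b → plain a = true → plain b = true := by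
        intro a b ha hb he hp
        simp only [plain, Bool.and_eq_true, decide_eq_true_eq, bne_iff_ne, Bool.not_eq_true'] at hp ⊢
        refine ⟨⟨hb, fun h0 => hp.1.2 ?_⟩, (p.class_conj ha hb he) ▸ hp.2⟩
        rw [h0, p.ev_zero, conj_eq_one_iff] at he
        exact p.ev_eq_one ha he
      refine ⟨y, List.mem_filter.mpr ⟨List.mem_range.mpr hy, ?_⟩, e⟩
      rw [Bool.and_eq_true]
      exact ⟨keep 44 y (by norm_num) hy e h44, keep _ _ (by decide) hy' e' h44'⟩).2.mp fun x hx => by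
    obtain ⟨hr, hp⟩ := List.mem_filter.mp hx
    rw [Bool.and_eq_true] at hp
    exact p.grow_sound _ hg (hout x (List.mem_range.mp hr) hp.1 hp.2)
  rw [h792, p.card_Mt] at h
  omega

theorem pair_table : ∀ m ∈ p.Mt ⊓ centralizer ({p.ev 44} : Set G), ∃ j < 240, p.Maps m (row Tri.lPair j) := by
  obtain ⟨hg, -, -, -, -, -, -, hm, hf, -⟩ := Tri.gens_ok
  exact (p.table_full (st := Tri.stepsPair) (o := Tri.ordPair) (Ms := Tri.mPair) rfl
    (fun k hk => p.maps_of_gens (gs := Tri.gPair) (fun g h => (hg g (by simp [h])).1) hm hf hk)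
    Tri.pair_derived Tri.pair_distinct (by norm_num) p.pair_card).1

theorem comp_lt {A : List ℕ} (hA : A.all (fun y => decide (y < 2048)) = true) (B : List ℕ) :
    (comp A B).all (fun y => decide (y < 2048)) = true :=
  List.all_eq_true.mpr fun y hy => by
    obtain ⟨x, -, rfl⟩ := List.mem_map.mp hy
    exact decide_eq_true (lap_lt hA x)

theorem len_getD {Ms : List (List ℕ)} (h : ∀ M ∈ Ms, M.length = 11) {i : ℕ} (hi : i < Ms.length) :
    (Ms.getD i idM).length = 11 := by
  rw [List.getD_eq_getElem _ _ hi]; exact h _ (List.getElem_mem hi)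

/-- The matrix of an element commuting with the moved element and fixing 68. -/
theorem tri_list {W' : G} (hW : p.Maps W' Tri.mW68) {m : G} (hm : m ∈ p.Mt) (hc : Commute m W')
    (h44 : Commute W' (p.ev 44)) : ∃ M ∈ Tri.cTri, p.Maps m M := by
  obtain ⟨hg, -, -, -, -, -, hR, -, -, hR68⟩ := Tri.gens_ok
  obtain ⟨hsix, hlen, h6⟩ := Tri.six_facts
  have hlt : ∀ M ∈ Tri.mR, M.all (fun y => decide (y < 2048)) = true := fun M hM => by
    rw [hR] at hM
    obtain ⟨g, hg', rfl⟩ := List.mem_map.mp hM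
    exact (hg g (by simp [hg'])).2
  obtain ⟨y, hy, e⟩ := p.coord_conj hm.1 (x := 44) (by norm_num)
  have hWy : Commute W' (p.ev y) := by
    rw [← e]
    exact ((hc.symm).mul_right h44).mul_right hc.symm.inv_right
  have hWlt : Tri.mW68.all (fun y => decide (y < 2048)) = true := by decide +kernel
  have hfix : lap Tri.mW68 y = y := by
    have := hW.ev (x := y)
    rw [hWy.eq, mul_inv_cancel_right] at this
    exact (p.ev_inj hy (lap_lt hWlt y) this).symm
  have y0 : y ≠ 0 := fun h => by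
    rw [h, p.ev_zero, conj_eq_one_iff] at e
    exact absurd (p.ev_eq_one (by norm_num) e) (by norm_num)
  have y68 : y ≠ 68 := fun h => by
    rw [h, ← mul_inv_eq_iff_eq_mul.mpr (p.mem_Ht.mp hm.2)] at e
    exact absurd (p.ev_inj (by norm_num) (by norm_num) (mul_left_cancel (mul_right_cancel e))) (by norm_num)
  obtain ⟨i, hi, hyi⟩ := List.getElem_of_mem (List.contains_iff_mem.mp (hsix y hy hfix y0 y68))
  have hiR : i < Tri.mR.length := hlen ▸ hi
  have hiG : i < Tri.gR.length := by rw [hR] at hiR; simpa using hiR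
  have eM : Tri.mR.getD i idM = matOf Tri.gR[i] := by
    rw [List.getD_eq_getElem _ _ hiR]; simp [hR]
  obtain ⟨n, hn, hM⟩ := p.maps_pp (hg _ (by simp [List.getElem_mem hiG] : Tri.gR[i] ∈ _)).1
  rw [← eM] at hM
  have hn68 : n ∈ p.Mt := ⟨hn, p.mem_Ht.mpr (mul_inv_eq_iff_eq_mul.mp ((hM.ev 68).trans (congrArg p.ev
    (hR68 _ (by rw [List.getD_eq_getElem _ _ hiR]; exact List.getElem_mem _)))))⟩
  have hn44 : n * p.ev 44 * n⁻¹ = p.ev y := by
    rw [hM.ev, h6 i hi, List.getD_eq_getElem _ _ hi, hyi]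
  have hst : n⁻¹ * m ∈ p.Mt ⊓ centralizer ({p.ev 44} : Set G) := Subgroup.mem_inf.mpr ⟨mul_mem (inv_mem hn68) hm,
    mem_centralizer_singleton_iff.mpr (mul_inv_eq_iff_eq_mul.mp (by
      rw [show n⁻¹ * m * p.ev 44 * (n⁻¹ * m)⁻¹ = n⁻¹ * (m * p.ev 44 * m⁻¹) * n by group, e, ← hn44]; group))⟩
  obtain ⟨j, hj, hJ⟩ := p.pair_table _ hst
  have hmM : p.Maps m (comp (Tri.mR.getD i idM) (row Tri.lPair j)) := by
    have := hM.mul hJ (row_length _ _)
    rwa [mul_inv_cancel_left] at this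
  refine ⟨_, ?_, hmM⟩
  have hlen11 : (comp (Tri.mR.getD i idM) (row Tri.lPair j)).length = 11 := by
    rw [comp, List.length_map, row_length]
  have hWlen : Tri.mW68.length = 11 := by decide +kernel
  have hRlt := hlt _ (by rw [List.getD_eq_getElem _ _ hiR]; exact List.getElem_mem hiR : Tri.mR.getD i idM ∈ Tri.mR)
  have hcomm : comp (comp (Tri.mR.getD i idM) (row Tri.lPair j)) Tri.mW68 =
      comp Tri.mW68 (comp (Tri.mR.getD i idM) (row Tri.lPair j)) :=
    (hmM.mul hW hWlen).congr (B := comp Tri.mW68 (comp (Tri.mR.getD i idM) (row Tri.lPair j)))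
      (by rw [hc.eq]; exact hW.mul hmM hlen11)
      (by rw [comp, List.length_map, hWlen]) (by rw [comp, List.length_map, hlen11])
      (comp_lt (comp_lt hRlt _) _) (comp_lt hWlt _)
  have hi6 : i < 6 := by
    have : Tri.six.length = 6 := by decide +kernel
    omega
  have := List.all_eq_true.mp (List.all_eq_true.mp Tri.commuting i (List.mem_range.mpr hi6)) j (List.mem_range.mpr hj)
  rw [hcomm] at this
  simp only [BEq.rfl, Bool.not_true, Bool.false_or] at this
  exact List.contains_iff_mem.mp this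

end Fr

namespace Tri

theorem moved : ∀ x < 2048, lap mN (lap mW x) = lap mW68 (lap mN x) := by decide +kernel

theorem moved_bit : ∀ i < 11, lap mW68 (2 ^ i) = mW68.getD i 0 := by decide +kernel

variable (p : Tri z)

/-- The element moving the chosen pair of fixed dodecads. -/
theorem exists_mover : ∃ n ∈ normalizer (p.toFr.Ag : Set G), p.toFr.Maps n mN ∧
    n * p.toFr.ev e1 * n⁻¹ = p.toFr.ev 68 ∧ n * p.toFr.ev e2 * n⁻¹ = p.toFr.ev 44 ∧
      p.toFr.Maps (n * p.w * n⁻¹) mW68 := by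
  obtain ⟨hg, -, -, -, -, eN, -, -, -, -⟩ := gens_ok
  obtain ⟨-, -, -, -, -, -, -, -, -, -, f1, f2, -, -⟩ := w_facts
  obtain ⟨n, hn, hM⟩ := p.toFr.maps_pp (hg gN (by simp)).1
  rw [← eN] at hM
  refine ⟨n, hn, hM, by rw [hM.ev, f1], by rw [hM.ev, f2], fun i hi => ?_⟩
  obtain ⟨x, hx, e⟩ := p.toFr.coord_conj (inv_mem hn) (x := 2 ^ i)
    (lt_of_lt_of_le (Nat.pow_lt_pow_right (by norm_num) hi) (by norm_num))
  rw [inv_inv] at e
  have e' : n * p.toFr.ev x * n⁻¹ = p.toFr.ev (2 ^ i) := by rw [← e]; group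
  have hx' : lap mN x = 2 ^ i := by
    rw [hM.ev] at e'
    exact p.toFr.ev_inj (lap_lt (by decide +kernel) x) (lt_of_lt_of_le (Nat.pow_lt_pow_right (by norm_num) hi)
      (by norm_num)) e'
  rw [← p.toFr.ev_bit hi,
    show n * p.w * n⁻¹ * p.toFr.ev (2 ^ i) * (n * p.w * n⁻¹)⁻¹ =
      n * (p.w * (n⁻¹ * p.toFr.ev (2 ^ i) * n) * p.w⁻¹) * n⁻¹ by group, e, p.maps_w.ev, hM.ev]
  refine congrArg p.toFr.ev ((moved x hx).trans ?_)
  rw [hx']
  exact moved_bit i hi

/-- The elements centralizing the element of order three and the dodecad. -/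
theorem small_list {n : G} (hn : n ∈ normalizer (p.toFr.Ag : Set G))
    (h1 : n * p.toFr.ev e1 * n⁻¹ = p.toFr.ev 68) (h2 : n * p.toFr.ev e2 * n⁻¹ = p.toFr.ev 44)
    (hW : p.toFr.Maps (n * p.w * n⁻¹) mW68) {y : G} (hy : Commute y p.w) (he : Commute y (p.toFr.ev e1)) :
    ∃ M ∈ cTri, p.toFr.Maps (n * y * n⁻¹) M := by
  have hm : n * y * n⁻¹ ∈ p.toFr.Mt := by
    have : n * y * n⁻¹ ∈ p.toFr.Ht := p.toFr.mem_Ht.mpr (h1 ▸ (Commute.conj_iff n).mpr he)
    rwa [p.toFr.dodecad_centralizer] at this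
  refine p.toFr.tri_list hW hm ((Commute.conj_iff n).mpr hy) ?_
  rw [← h2]
  exact (Commute.conj_iff n).mpr ((p.fix_iff (by decide)).mpr w_facts.2.2.2.2.2.2.2.2.2.2.2.2.2)

end Tri

end Cfsg.Lib.ConwayType
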