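import Cfsg.Agent.ConwayType.Locals.Three.List
import Mathlib.GroupTheory.Perm.Cycle.Type

/-!
The centralizer of the element of order three in the pair centralizer is alternating of degree eight.
-/

set_option autoImplicit false
set_option synthInstance.maxSize 4096
set_option maxRecDepth 100000
set_option maxHeartbeats 1000000
set_option linter.unusedSectionVars false
set_option linter.style.haveILetI false

namespace Cfsg.Lib.ConwayType

open Subgroup Cfsg.Lib.ConwayType.Code Cfsg.Lib.ConwayType.Local Cfsg.Lib.ConwayType.Dod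
open Cfsg.Lib.ConwayType.Alt9 (A8)

universe u

variable {G : Type u} [Group G] [Finite G] {z : G}

theorem exists_fixed {α : Type*} [Finite α] {p : ℕ} [Fact p.Prime] (h : ¬ p ∣ Nat.card α) {σ : Equiv.Perm α}
    (hσ : σ ^ p = 1) : ∃ a, σ a = a := by
  classical
  haveI := Fintype.ofFinite α
  rw [Nat.card_eq_fintype_card] at h
  exact Equiv.Perm.exists_fixed_point_of_prime (n := 1) h (by rw [pow_one]; exact hσ)

theorem exists_fixed_ne {α : Type*} [Finite α] {p : ℕ} [Fact p.Prime] (h : p ∣ Nat.card α) {σ : Equiv.Perm α}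
    (hσ : σ ^ p = 1) {a : α} (ha : σ a = a) : ∃ b, σ b = b ∧ b ≠ a := by
  classical
  haveI := Fintype.ofFinite α
  rw [Nat.card_eq_fintype_card] at h
  exact Equiv.Perm.exists_fixed_point_of_prime' (n := 1) h (by rw [pow_one]; exact hσ) ha

namespace Qt

variable (p : Qt z)

/-- Conjugation by the lift fixing z acts trivially modulo the radical. -/
theorem q_phi (t : ↥p.toPt.Tg) : ∃ h : p.q * t * p.q⁻¹ ∈ p.toPt.Tg, p.toPt.phi ⟨_, h⟩ = p.toPt.phi t := by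
  obtain ⟨hz, hs⟩ := p.toPt.mem_Tg.mp t.2
  have hqz := p.qz
  have hcz : Commute (p.q * t * p.q⁻¹) z := ((hqz.mul_left hz).mul_left hqz.inv_left)
  have hcs : Commute (p.q * t * p.q⁻¹) p.s := by
    have h := (Commute.conj_iff p.q).mpr (hz.mul_right hs)
    rwa [show p.q * (z * p.s) * p.q⁻¹ = p.q * z * p.q⁻¹ * (p.q * p.s * p.q⁻¹) by group, p.q_conj_s,
      hqz.eq, mul_inv_cancel_right, ← mul_assoc, p.X.zz, one_mul] at h
  have hT : p.q * t * p.q⁻¹ ∈ p.toPt.Tg := p.toPt.mem_Tg.mpr ⟨hcz, hcs⟩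
  refine ⟨hT, (p.toPt.phi_congr.mpr (p.toPt.A_R0 ⟨?_, ?_⟩)).symm⟩
  · rw [show (t : G)⁻¹ * (p.q * t * p.q⁻¹) = ((t : G)⁻¹ * p.q * (t : G)⁻¹⁻¹) * p.q⁻¹ by group]
    exact mul_mem (p.toCtx.norm hz.inv_left p.hq) (inv_mem p.hq)
  · exact hs.inv_left.mul_left hcs

/-- The same for its conjugate fixing s. -/
theorem qc_phi (t : ↥p.toPt.Tg) : ∃ h : p.qc * t * p.qc⁻¹ ∈ p.toPt.Tg, p.toPt.phi ⟨_, h⟩ = p.toPt.phi t := by
  obtain ⟨hz, hs⟩ := p.toPt.mem_Tg.mp t.2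
  have hcs : Commute (p.qc * t * p.qc⁻¹) p.s := (p.qc_s.mul_left hs).mul_left p.qc_s.inv_left
  have hcz : Commute (p.qc * t * p.qc⁻¹) z := by
    have h := (Commute.conj_iff p.qc).mpr (hz.mul_right hs)
    rwa [p.qc_conj_zs] at h
  have hT : p.qc * t * p.qc⁻¹ ∈ p.toPt.Tg := p.toPt.mem_Tg.mpr ⟨hcz, hcs⟩
  refine ⟨hT, (p.toPt.phi_congr.mpr (p.toPt.R_R0 ⟨?_, ?_⟩)).symm⟩
  · rw [show (t : G)⁻¹ * (p.qc * t * p.qc⁻¹) = ((t : G)⁻¹ * p.qc * (t : G)⁻¹⁻¹) * p.qc⁻¹ by group]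
    exact mul_mem (p.toPt.Q'_norm hs.inv_left p.qc_mem) (inv_mem p.qc_mem)
  · exact hz.inv_left.mul_left hcz

end Qt

namespace Tri

open Cfsg.Lib.ConwayType.Tri

variable (p : Tri z)

theorem trE_facts : (∀ j : Fin 8, atPt j < 2048 ∧ atPt j ∈ fix8) ∧ (∀ i j : Fin 8, atPt i = atPt j → i = j) ∧
    atPt 0 = 0 ∧ (∀ x ∈ fix8, ∀ w ∈ W, nr (rho (2 * (x / 32 % 8)) (act (tWord (x / 256)) w)) =
      nr (act (tWord (x / 256)) w)) := by decide +kernel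

/-- A fixed element of the code acts as a translation. -/
theorem phi_fixed (j : Fin 8) :
    p.toPt.phi ⟨p.toFr.ev (atPt j), p.toPt.mem_Tg.mpr (p.toFr.ev_T _)⟩ = hom8 (trE j) :=
  Equiv.ext fun w => Subtype.ext (by
    rw [p.toFr.phi_ev (trE_facts.1 j).1, trE_facts.2.2.2 _ (trE_facts.1 j).2 w w.2, hom8_trE])

theorem c_spec : ∀ c ∈ [p.c1, p.c2], p.toPt.T c ∧ Commute c p.w ∧ Commute c p.τ := by
  intro c hc
  obtain ⟨-, -, -, -, -, -, -, -, hk, -⟩ := w_facts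
  have fix : ∀ M : List ℕ, p.toFr.Maps c M → lap M 1 = 1 → lap M 2 = 2 → p.toPt.T c := fun M hM h1 h2 => by
    have a := hM.ev (x := 1)
    have b := hM.ev (x := 2)
    rw [h1, p.toFr.ev_z] at a
    rw [h2, p.toFr.ev_s] at b
    exact ⟨mul_inv_eq_iff_eq_mul.mp a, mul_inv_eq_iff_eq_mul.mp b⟩
  refine ⟨?_, p.comm c hc⟩
  simp only [List.mem_cons, List.not_mem_nil, or_false] at hc
  rcases hc with rfl | rfl
  · exact fix _ p.maps_1 (hk _ (by simp)).2.2.1 (hk _ (by simp)).2.2.2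
  · exact fix _ p.maps_2 (hk _ (by simp)).2.2.1 (hk _ (by simp)).2.2.2

/-- An element acting on the section in commutation with the fixed code elements and the two others is trivial there. -/
theorem trivial_of_comm (t : ↥p.toPt.Tg)
    (h : ∀ x : ↥p.toPt.Tg, Commute (x : G) p.w → Commute (x : G) p.τ → Commute (p.toPt.phi t) (p.toPt.phi x)) :
    p.toPt.phi t = 1 := by
  obtain ⟨hrange, -, -⟩ := p.toFr.phi_facts
  obtain ⟨π, hπ⟩ : p.toPt.phi t ∈ hom8.range := hrange.le ⟨t, rfl⟩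
  have hcomm : ∀ j, Commute π (trE j) := fun j => hom8_inj (by
    rw [map_mul, map_mul, hπ, ← p.phi_fixed j]
    exact (h _ ((p.fix_iff (trE_facts.1 j).1).mpr (trE_facts.1 j).2).symm (p.t_fix (trE_facts.1 j).2).symm).eq)
  obtain ⟨j, hj⟩ : ∃ j, π = trE j := ⟨_, translation_of_comm hcomm⟩
  rw [hj, ← p.phi_fixed] at hπ
  have hstep : ∀ c ∈ [p.c1, p.c2], ∀ M : List ℕ, p.toFr.Maps c M → M.all (fun y => decide (y < 2048)) = true →
      lap M (atPt j) = atPt j := by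
    intro c hc M hM hlt
    obtain ⟨hT, hw, ht⟩ := p.c_spec c hc
    obtain ⟨hl, hf⟩ := trE_facts.1 j
    have hXw : Commute p.w (p.toFr.ev (atPt j)) := (p.fix_iff hl).mpr hf
    have hw' : Commute p.w (p.toFr.ev (lap M (atPt j))) := by
      rw [← hM.ev]
      exact (hw.symm.mul_right hXw).mul_right hw.symm.inv_right
    obtain ⟨i, hi⟩ := atPt_surj _ ((p.fix_iff (lap_lt hlt _)).mp hw')
    have e : hom8 (trE i) = hom8 (trE j) := by
      rw [← p.phi_fixed i, ← p.phi_fixed j]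
      set C : ↥p.toPt.Tg := ⟨c, p.toPt.mem_Tg.mpr hT⟩
      set X : ↥p.toPt.Tg := ⟨p.toFr.ev (atPt j), p.toPt.mem_Tg.mpr (p.toFr.ev_T _)⟩
      rw [show (⟨p.toFr.ev (atPt i), p.toPt.mem_Tg.mpr (p.toFr.ev_T _)⟩ : ↥p.toPt.Tg) = C * X * C⁻¹ from
        Subtype.ext (by rw [hi]; exact (hM.ev (atPt j)).symm), map_mul, map_mul, map_inv, hπ, ← (h C hw ht).eq,
        mul_inv_cancel_right]
    have hij : i = j := by
      have := congrArg (fun q : A8 => (q : Equiv.Perm (Fin 8)) 0) (hom8_inj e)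
      simpa [(by decide +kernel : ∀ i, (trE i : Equiv.Perm (Fin 8)) 0 = i)] using this
    rw [← hi, hij]
  have hbounds : mK1.all (fun y => decide (y < 2048)) = true ∧ mK2.all (fun y => decide (y < 2048)) = true := by
    decide +kernel
  have h1 := hstep p.c1 (by simp) mK1 p.maps_1 hbounds.1
  have h2 := hstep p.c2 (by simp) mK2 p.maps_2 hbounds.2
  have h0 : atPt j = 0 := by
    by_contra h0
    rcases (fix_facts.2 _ (trE_facts.1 j).2).2.2.2.2 h0 with e | e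
    exacts [e h1, e h2]
  obtain rfl : j = 0 := trE_facts.2.1 j 0 (h0.trans trE_facts.2.2.1.symm)
  rw [← hπ]
  rw [show (⟨p.toFr.ev (atPt 0), p.toPt.mem_Tg.mpr (p.toFr.ev_T _)⟩ : ↥p.toPt.Tg) = 1 from
    Subtype.ext (by rw [trE_facts.2.2.1]; exact p.toFr.ev_zero), map_one]

/-- Conjugation by the element of order three and by the involution are trivial modulo the radical. -/
theorem conj_phi (t : ↥p.toPt.Tg) :
    (∃ h : p.w * t * p.w⁻¹ ∈ p.toPt.Tg, p.toPt.phi ⟨_, h⟩ = p.toPt.phi t) ∧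
      ∃ h : p.τ * t * p.τ⁻¹ ∈ p.toPt.Tg, p.toPt.phi ⟨_, h⟩ = p.toPt.phi t := by
  obtain ⟨w1, w2, t1, t2⟩ := p.moves
  let q := p.toQt
  have qz : q.q * z * q.q⁻¹ = z := mul_inv_eq_iff_eq_mul.mpr q.qz
  have qs : q.q * p.s * q.q⁻¹ = z * p.s := q.q_conj_s
  have qzs : q.q * (z * p.s) * q.q⁻¹ = p.s := by
    rw [show q.q * (z * p.s) * q.q⁻¹ = q.q * z * q.q⁻¹ * (q.q * p.s * q.q⁻¹) by group, qz, qs, ← mul_assoc,
      p.X.zz, one_mul]
  have qcs : q.qc * p.s * q.qc⁻¹ = p.s := mul_inv_eq_iff_eq_mul.mpr q.qc_s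
  -- the two translators
  have u1 : q.q * q.qc * z * (q.q * q.qc)⁻¹ = p.s := by
    rw [show q.q * q.qc * z * (q.q * q.qc)⁻¹ = q.q * (q.qc * z * q.qc⁻¹) * q.q⁻¹ by group, q.qc_conj_z, qzs]
  have u2 : q.q * q.qc * p.s * (q.q * q.qc)⁻¹ = z * p.s := by
    rw [show q.q * q.qc * p.s * (q.q * q.qc)⁻¹ = q.q * (q.qc * p.s * q.qc⁻¹) * q.q⁻¹ by group, qcs, qs]
  have mkT : ∀ u g : G, u * z * u⁻¹ = g * z * g⁻¹ → u * p.s * u⁻¹ = g * p.s * g⁻¹ → u⁻¹ * g ∈ p.toPt.Tg := by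
    intro u g a b
    refine p.toPt.mem_Tg.mpr ⟨mul_inv_eq_iff_eq_mul.mp ?_, mul_inv_eq_iff_eq_mul.mp ?_⟩
    · rw [show u⁻¹ * g * z * (u⁻¹ * g)⁻¹ = u⁻¹ * (g * z * g⁻¹) * u by group, ← a]; group
    · rw [show u⁻¹ * g * p.s * (u⁻¹ * g)⁻¹ = u⁻¹ * (g * p.s * g⁻¹) * u by group, ← b]; group
  have general : ∀ (u g : G), u⁻¹ * g ∈ p.toPt.Tg →
      (∀ t : ↥p.toPt.Tg, ∃ h : u * t * u⁻¹ ∈ p.toPt.Tg, p.toPt.phi ⟨_, h⟩ = p.toPt.phi t) →
      (∀ x : ↥p.toPt.Tg, Commute (x : G) p.w → Commute (x : G) p.τ → Commute (x : G) g) →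
      ∀ t : ↥p.toPt.Tg, ∃ h : g * t * g⁻¹ ∈ p.toPt.Tg, p.toPt.phi ⟨_, h⟩ = p.toPt.phi t := by
    intro u g h0 hu hg t
    set t0 : ↥p.toPt.Tg := ⟨u⁻¹ * g, h0⟩ with ht0
    have key : ∀ x : ↥p.toPt.Tg, ∃ h : g * x * g⁻¹ ∈ p.toPt.Tg, p.toPt.phi ⟨_, h⟩ = p.toPt.phi (t0 * x * t0⁻¹) := by
      intro x
      obtain ⟨h1, e1⟩ := hu (t0 * x * t0⁻¹)
      have ee : u * ((t0 * x * t0⁻¹ : ↥p.toPt.Tg) : G) * u⁻¹ = g * x * g⁻¹ := by
        simp only [Subgroup.coe_mul, Subgroup.coe_inv, ht0]; group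
      exact ⟨ee ▸ h1, (congrArg p.toPt.phi (Subtype.ext ee.symm)).trans e1⟩
    have h1 : p.toPt.phi t0 = 1 := by
      refine p.trivial_of_comm t0 fun x hx hx' => ?_
      obtain ⟨h, e⟩ := key x
      rw [map_mul, map_mul, map_inv, show (⟨g * x * g⁻¹, h⟩ : ↥p.toPt.Tg) = x from
        Subtype.ext (mul_inv_eq_iff_eq_mul.mpr (hg x hx hx').symm)] at e
      exact eq_mul_inv_iff_mul_eq.mp e |>.symm
    obtain ⟨h, e⟩ := key t
    exact ⟨h, by rw [e, map_mul, map_mul, map_inv, h1, one_mul, inv_one, mul_one]⟩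
  refine ⟨general (q.q * q.qc) p.w (mkT _ _ (u1.trans w1.symm) (u2.trans w2.symm)) ?_ (fun _ h _ => h) t,
    general q.q p.τ (mkT _ _ (qz.trans t1.symm) (qs.trans t2.symm)) q.q_phi (fun _ _ h => h) t⟩
  intro x
  obtain ⟨h1, e1⟩ := q.qc_phi x
  obtain ⟨h2, e2⟩ := q.q_phi ⟨_, h1⟩
  have ee : q.q * (q.qc * x * q.qc⁻¹) * q.q⁻¹ = q.q * q.qc * x * (q.q * q.qc)⁻¹ := by group
  exact ⟨ee ▸ h2, (congrArg p.toPt.phi (Subtype.ext ee.symm)).trans (e2.trans e1)⟩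

/-- The fixed elements of the element of order three in the pair centralizer. -/
def L8 : Subgroup G := p.toPt.Tg ⊓ centralizer ({p.w} : Set G)

theorem mem_L8 {x : G} : x ∈ p.L8 ↔ x ∈ p.toPt.Tg ∧ Commute x p.w :=
  and_congr Iff.rfl mem_centralizer_singleton_iff

theorem comm_E {v u : G} (hv : v ∈ p.toPt.R0) (hu : p.toPt.A u ∨ p.toPt.R u) :
    p.toPt.InE (v * u * v⁻¹ * u⁻¹) := by
  obtain ⟨a, r, ha, hr, rfl⟩ := p.toFr.phi_facts.2.2 v hv
  refine p.toPt.comm_mul_E (p.toPt.A_T ha) ?_ ?_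
  · exact hu.elim (p.toPt.A_A_comm ha) (p.toPt.A_R_comm ha)
  · refine hu.elim (fun hu => ?_) (p.toPt.R_R_comm hr)
    have := p.toPt.E_inv (p.toPt.A_R_comm hu hr)
    rwa [show (u * r * u⁻¹ * r⁻¹)⁻¹ = r * u * r⁻¹ * u⁻¹ by group] at this

theorem bit_A_or_R : ∀ i < 8, p.toPt.A (p.toFr.ev (2 ^ i)) ∨ p.toPt.R (p.toFr.ev (2 ^ i)) := by
  intro i hi
  by_cases h : i < 5
  · refine Or.inl ⟨(p.toFr.ev_Q _ (Nat.pow_lt_pow_right (by norm_num) h)).1, ?_⟩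
    rw [← p.toFr.ev_s]; exact p.toFr.ev_comm _ _
  · refine Or.inr ?_
    have h2 : 2 ^ i = 2 ^ (i - 5) <<< 5 := by
      rw [Nat.shiftLeft_eq, ← pow_add, Nat.sub_add_cancel (by omega)]
    rw [h2]
    exact (p.toFr.ev_R _ (Nat.pow_lt_pow_right (by norm_num) (by omega))).1

theorem E_code {e : G} (he : p.toPt.InE e) : ∃ u < 4, e = p.toFr.ev u := by
  rcases he with rfl | rfl | rfl | rfl
  exacts [⟨0, by norm_num, p.toFr.ev_zero.symm⟩, ⟨1, by norm_num, p.toFr.ev_z.symm⟩,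
    ⟨2, by norm_num, p.toFr.ev_s.symm⟩, ⟨3, by norm_num, p.toFr.ev_zs.symm⟩]

theorem e1_T : p.toFr.ev e1 ∈ p.toPt.Tg := p.toPt.mem_Tg.mpr (p.toFr.ev_T _)

theorem e1_w : Commute (p.toFr.ev e1) p.w :=
  ((p.fix_iff (by decide)).mpr (w_facts.2.2.2.2.2.2.2.2.2.2.2.2.1)).symm

theorem phi_e1 : p.toPt.phi ⟨_, p.e1_T⟩ = hom8 Alt9.e0 := by
  have h := p.phi_fixed 1
  simp only [atPt_e1] at h
  exact h

/-- The element of order three has no fixed point in the radical. -/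
theorem radical_free {v : G} (hv : v ∈ p.toPt.R0) (hw : Commute v p.w) : v = 1 := by
  classical
  haveI : Fact (Nat.Prime 2) := ⟨Nat.prime_two⟩
  by_contra hne
  let D : Subgroup G := p.toPt.R0 ⊓ centralizer ({p.w} : Set G)
  have hD : IsPGroup 2 ↥D := p.toFr.R0_pGroup.to_le inf_le_left
  have h2 : 2 ∣ Nat.card ↥D := by
    obtain ⟨k, hk⟩ := IsPGroup.iff_card.mp hD
    rcases Nat.eq_zero_or_pos k with h0 | h0
    · rw [h0, pow_zero] at hk
      have hb := Subgroup.card_eq_one.mp hk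
      exact absurd (Subgroup.mem_bot.mp (hb ▸ (Subgroup.mem_inf.mpr ⟨hv, mem_centralizer_singleton_iff.mpr hw⟩ : v ∈ D)))
        hne
    · exact hk ▸ dvd_pow_self 2 h0.ne'
  set e := p.toFr.ev e1 with he
  have hee : e * e = 1 := p.toFr.ev_sq _
  have hconj : ∀ d ∈ D, e * d * e⁻¹ ∈ D := fun d hd => by
    obtain ⟨h1, h2⟩ := Subgroup.mem_inf.mp hd
    refine Subgroup.mem_inf.mpr ⟨?_, mem_centralizer_singleton_iff.mpr ((p.e1_w.mul_left
      (mem_centralizer_singleton_iff.mp h2)).mul_left p.e1_w.inv_left)⟩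
    have hT := p.toPt.R0_le h1
    rw [show e * d * e⁻¹ = (((⟨e, p.e1_T⟩ : ↥p.toPt.Tg) * ⟨d, hT⟩ * ⟨e, p.e1_T⟩⁻¹ : ↥p.toPt.Tg) : G) from rfl,
      p.toPt.mem_R0 (Subtype.prop _), Subtype.coe_eta, map_mul, map_mul, (p.toPt.mem_R0 hT).mp h1, mul_one, map_inv,
      mul_inv_cancel]
  let σ : Equiv.Perm ↥D :=
    { toFun := fun d => ⟨e * d * e⁻¹, hconj d d.2⟩
      invFun := fun d => ⟨e * d * e⁻¹, hconj d d.2⟩
      left_inv := fun d => Subtype.ext (show e * (e * d * e⁻¹) * e⁻¹ = d by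
        rw [show e * (e * (d : G) * e⁻¹) * e⁻¹ = e * e * d * (e * e)⁻¹ by group, hee]; simp)
      right_inv := fun d => Subtype.ext (show e * (e * d * e⁻¹) * e⁻¹ = d by
        rw [show e * (e * (d : G) * e⁻¹) * e⁻¹ = e * e * d * (e * e)⁻¹ by group, hee]; simp) }
  have hσ : σ ^ 2 = 1 := by
    rw [pow_two]; exact Equiv.ext fun d => σ.left_inv d
  obtain ⟨⟨x, hx⟩, hfix, hx1⟩ := exists_fixed_ne h2 hσ (a := (1 : ↥D)) (Subtype.ext (show e * 1 * e⁻¹ = 1 by group))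
  obtain ⟨hxR, hxw⟩ := Subgroup.mem_inf.mp hx
  have hxw' : Commute x p.w := mem_centralizer_singleton_iff.mp hxw
  have hxe : Commute x e := (mul_inv_eq_iff_eq_mul.mp (congrArg Subtype.val hfix)).symm
  obtain ⟨n, hn, hN, f1, f2, hW⟩ := p.exists_mover
  obtain ⟨M, hM, hmx⟩ := p.small_list hn f1 f2 hW hxw' hxe
  have hrad : M = idM := by
    have h := List.all_eq_true.mp radical_part M hM
    simp only [Bool.or_eq_true, beq_iff_eq, List.any_eq_true, List.mem_range, Bool.not_eq_true'] at h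
    refine h.resolve_right ?_
    rintro ⟨i, hi, hh⟩
    obtain ⟨u, hu, eu⟩ := p.E_code (p.comm_E hxR (p.bit_A_or_R i hi))
    have key : x * p.toFr.ev (2 ^ i) * x⁻¹ = p.toFr.ev (u ^^^ 2 ^ i) := by
      rw [p.toFr.ev_xor, ← eu, inv_mul_cancel_right]
    have hlow : lap M (lap mN (2 ^ i)) = lap mN (2 ^ i) ^^^ lap mN u := by
      have e1 := hmx.ev (x := lap mN (2 ^ i))
      rw [← hN.ev, show n * x * n⁻¹ * (n * p.toFr.ev (2 ^ i) * n⁻¹) * (n * x * n⁻¹)⁻¹ =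
        n * (x * p.toFr.ev (2 ^ i) * x⁻¹) * n⁻¹ by group, key, hN.ev, lap_xor, Nat.xor_comm] at e1
      exact (p.toFr.ev_inj (Nat.xor_lt_two_pow (n := 11) (lap_lt (by decide +kernel) _) (lap_lt (by decide +kernel) _))
        (lap_lt ((by decide +kernel : ∀ M ∈ cTri, M.all (fun y => decide (y < 2048)) = true) M hM) _) e1).symm
    rw [List.any_eq_false] at hh
    refine hh u ?_ (beq_iff_eq.mpr hlow)
    simp only [List.mem_cons, List.not_mem_nil, or_false]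
    omega
  subst hrad
  have hA : n * x * n⁻¹ ∈ p.toFr.Ag := by simpa using p.toFr.same_action hmx p.toFr.maps_one fun i _ => rfl
  have hxA : x ∈ p.toFr.Ag := (mem_normalizer_iff.mp hn x).mpr hA
  obtain ⟨c, hc, rfl⟩ := hxA
  obtain ⟨j, rfl⟩ := atPt_surj c ((p.fix_iff hc).mp hxw'.symm)
  have hphi := p.phi_fixed j
  rw [(p.toPt.mem_R0 (p.toPt.R0_le hxR)).mp hxR] at hphi
  have hj : trE j = 1 := hom8_inj (hphi.symm.trans (map_one hom8).symm)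
  have : j = 0 := by
    have := congrArg (fun q : A8 => (q : Equiv.Perm (Fin 8)) 0) hj
    simpa [(by decide +kernel : ∀ i, (trE i : Equiv.Perm (Fin 8)) 0 = i)] using this
  refine hx1 (Subtype.ext ?_)
  show p.toFr.ev (atPt j) = 1
  rw [this, trE_facts.2.2.1, p.toFr.ev_zero]

/-- Every action on the section is realised by a fixed element of the element of order three, uniquely. -/
theorem L8_unique (π : A8) : ∃! x : G, ∃ h : x ∈ p.L8, p.toPt.phi ⟨x, (p.mem_L8.mp h).1⟩ = hom8 π := by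
  classical
  haveI : Fact (Nat.Prime 3) := ⟨Nat.prime_three⟩
  obtain ⟨hrange, hR0, -⟩ := p.toFr.phi_facts
  obtain ⟨t, ht⟩ : hom8 π ∈ p.toPt.phi.range := hrange.ge ⟨π, rfl⟩
  let C := {x : ↥p.toPt.Tg // p.toPt.phi x = hom8 π}
  let eC : ↥p.toPt.R0 ≃ C :=
    { toFun := fun r => ⟨t * ⟨r, p.toPt.R0_le r.2⟩, by
        rw [map_mul, (p.toPt.mem_R0 _).mp r.2, mul_one, ht]⟩
      invFun := fun x => ⟨(t : G)⁻¹ * x.1, p.toPt.phi_congr.mp (ht.trans x.2.symm)⟩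
      left_inv := fun r => Subtype.ext (by simp)
      right_inv := fun x => Subtype.ext (Subtype.ext (by simp)) }
  have hC : ¬ 3 ∣ Nat.card C := by rw [← Nat.card_congr eC, hR0]; decide
  have stp : ∀ x : C, ∃ h : p.w * (x.1 : G) * p.w⁻¹ ∈ p.toPt.Tg, p.toPt.phi ⟨_, h⟩ = hom8 π := fun x => by
    obtain ⟨h, e⟩ := (p.conj_phi x.1).1
    exact ⟨h, e.trans x.2⟩
  let f : C → C := fun x => ⟨⟨_, (stp x).1⟩, (stp x).2⟩
  have hf : ∀ x : C, ((f (f (f x))).1 : G) = x.1 := fun x => by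
    show p.w * (p.w * (p.w * (x.1 : G) * p.w⁻¹) * p.w⁻¹) * p.w⁻¹ = x.1
    rw [show p.w * (p.w * (p.w * (x.1 : G) * p.w⁻¹) * p.w⁻¹) * p.w⁻¹ =
      p.w * p.w * p.w * x.1 * (p.w * p.w * p.w)⁻¹ by group, p.w3]; simp
  let σ : Equiv.Perm C :=
    { toFun := f
      invFun := fun x => f (f x)
      left_inv := fun x => Subtype.ext (Subtype.ext (hf x))
      right_inv := fun x => Subtype.ext (Subtype.ext (hf x)) }
  obtain ⟨x, hx⟩ := exists_fixed hC (σ := σ) (by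
    rw [pow_succ, pow_two]; exact Equiv.ext fun x => Subtype.ext (Subtype.ext (hf x)))
  have hxw : Commute (x.1 : G) p.w :=
    (mul_inv_eq_iff_eq_mul.mp (congrArg (fun y : C => (y.1 : G)) hx)).symm
  refine ⟨x.1, ⟨p.mem_L8.mpr ⟨x.1.2, hxw⟩, x.2⟩, ?_⟩
  rintro y ⟨hy, ey⟩
  obtain ⟨hyT, hyw⟩ := p.mem_L8.mp hy
  have hr := p.toPt.phi_congr.mp (x.2.trans ey.symm)
  have := p.radical_free hr (hxw.inv_left.mul_left hyw)
  exact (inv_mul_eq_one.mp this).symm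

/-- The alternating group of degree eight in the centralizer. -/
noncomputable def iota8 : A8 →* G :=
  MonoidHom.mk' (fun π => (p.L8_unique π).exists.choose) fun π ρ => by
    obtain ⟨h1, e1⟩ := (p.L8_unique π).exists.choose_spec
    obtain ⟨h2, e2⟩ := (p.L8_unique ρ).exists.choose_spec
    refine (p.L8_unique (π * ρ)).unique (p.L8_unique (π * ρ)).exists.choose_spec ⟨mul_mem h1 h2, ?_⟩
    refine Eq.trans ?_ ((congrArg₂ (· * ·) e1 e2).trans (map_mul hom8 π ρ).symm)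
    show _ = p.toPt.phi _ * p.toPt.phi _
    rw [← map_mul]
    rfl

theorem iota8_spec (π : A8) : ∃ h : p.iota8 π ∈ p.L8, p.toPt.phi ⟨p.iota8 π, (p.mem_L8.mp h).1⟩ = hom8 π :=
  (p.L8_unique π).exists.choose_spec

theorem iota8_inj : Function.Injective p.iota8 := fun a b e => by
  obtain ⟨_, ha⟩ := p.iota8_spec a
  obtain ⟨_, hb⟩ := p.iota8_spec b
  refine hom8_inj ?_
  rw [← ha, ← hb]
  exact congrArg p.toPt.phi (Subtype.ext e)

theorem iota8_e0 : p.iota8 Alt9.e0 = p.toFr.ev e1 :=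
  (p.L8_unique Alt9.e0).unique (p.iota8_spec _) ⟨p.mem_L8.mpr ⟨p.e1_T, p.e1_w⟩, p.phi_e1⟩

theorem iota8_range {x : G} (h : x ∈ p.L8) : ∃ π, p.iota8 π = x := by
  obtain ⟨hrange, -, -⟩ := p.toFr.phi_facts
  obtain ⟨π, hπ⟩ : p.toPt.phi ⟨x, (p.mem_L8.mp h).1⟩ ∈ hom8.range := hrange.le ⟨_, rfl⟩
  exact ⟨π, (p.L8_unique π).unique (p.iota8_spec π) ⟨h, hπ.symm⟩⟩

theorem iota8_w (π : A8) : Commute (p.iota8 π) p.w := (p.mem_L8.mp (p.iota8_spec π).1).2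

theorem iota8_T (π : A8) : p.iota8 π ∈ p.toPt.Tg := (p.mem_L8.mp (p.iota8_spec π).1).1

/-- The involution centralizes the alternating group. -/
theorem iota8_t (π : A8) : Commute (p.iota8 π) p.τ := by
  obtain ⟨h, e⟩ := p.iota8_spec π
  obtain ⟨hT, eT⟩ := (p.conj_phi ⟨p.iota8 π, (p.mem_L8.mp h).1⟩).2
  have hw : Commute (p.τ * p.iota8 π * p.τ⁻¹) p.w := by
    have h1 := (Commute.conj_iff p.τ).mpr (p.iota8_w π).inv_right
    have e1 : p.τ * p.w⁻¹ * p.τ⁻¹ = p.w := by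
      rw [show p.τ * p.w⁻¹ * p.τ⁻¹ = (p.τ * p.w * p.τ⁻¹)⁻¹ by group, p.inv, inv_inv]
    rwa [e1] at h1
  have := (p.L8_unique π).unique ⟨p.mem_L8.mpr ⟨hT, hw⟩, eT.trans e⟩ ⟨h, e⟩
  exact (mul_inv_eq_iff_eq_mul.mp this).symm

end Tri

end Cfsg.Lib.ConwayType
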