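import Cfsg.Agent.ConwayType.Locals.TriCheck
import Cfsg.Agent.ConwayType.Locals.CentT

/-!
An element of order three in the normalizer of the code, an involution inverting it and two elements commuting with
both.
-/

set_option autoImplicit false
set_option maxRecDepth 100000
set_option maxHeartbeats 1000000
set_option linter.unusedSectionVars false
set_option linter.style.haveILetI false

namespace Cfsg.Lib.ConwayType

open Subgroup Cfsg.Lib.Golay Cfsg.Lib.ConwayType.Local Cfsg.Lib.ConwayType.Tri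
open Cfsg.Lib.PermCert (PP)

universe u

variable {G : Type u} [Group G] [Finite G] {z : G}

/-- The elements around the element of order three. -/
structure Tri (z : G) extends Fr z where
  w : G
  τ : G
  c1 : G
  c2 : G
  maps_w : toFr.Maps w Tri.mW
  maps_t : toFr.Maps τ Tri.mT
  maps_1 : toFr.Maps c1 Tri.mK1
  maps_2 : toFr.Maps c2 Tri.mK2
  wN : w ∈ normalizer (toFr.Ag : Set G)
  w3 : w * w * w = 1
  tt : τ * τ = 1
  inv : τ * w * τ⁻¹ = w⁻¹
  comm : ∀ c ∈ [c1, c2], Commute c w ∧ Commute c τ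

namespace Fr

variable (p : Fr z)

include p in
/-- Lifts in a complement realise permutations with all their relations. -/
theorem exists_tri : Nonempty (Tri z) := by
  obtain ⟨K, hK⟩ := p.exists_compl
  obtain ⟨hg, eW, eT, e1, e2, -, -, -, -, -⟩ := Tri.gens_ok
  have lift : ∀ g ∈ [gW, gT, gK1, gK2], ∃ k : ↥(normalizer (p.Ag : Set G)), k ∈ K ∧ p.Maps (k : G) (Dod.matOf g) := by
    intro g h
    obtain ⟨n, hn, hM⟩ := p.maps_pp (hg g (by simp at h ⊢; tauto)).1
    obtain ⟨⟨⟨a, ha⟩, ⟨k, hk⟩⟩, e⟩ := hK.2 (⟨n, hn⟩ : ↥(normalizer (p.Ag : Set G)))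
    refine ⟨k, hk, fun i hi => ?_⟩
    have e' : (a : G) * k = n := congrArg Subtype.val e
    have ha' : (a : G) ∈ p.Ag := mem_subgroupOf.mp ha
    obtain ⟨y, hy, ey⟩ := (mem_normalizer_iff.mp k.2 _).mp (p.gen_mem hi)
    rw [← hM i hi, ← e',
      show (a : G) * k * p.gen i * ((a : G) * k)⁻¹ = (a : G) * ((k : G) * p.gen i * (k : G)⁻¹) * (a : G)⁻¹ by group,
      (p.Ag_comm ha' ((mem_normalizer_iff.mp k.2 _).mp (p.gen_mem hi))).eq, mul_inv_cancel_right]
  obtain ⟨w, hw, mw⟩ := lift gW (by simp)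
  obtain ⟨t, ht, mt⟩ := lift gT (by simp)
  obtain ⟨a, ha, ma⟩ := lift gK1 (by simp)
  obtain ⟨b, hb, mb⟩ := lift gK2 (by simp)
  rw [← eW] at mw
  rw [← eT] at mt
  rw [← e1] at ma
  rw [← e2] at mb
  obtain ⟨r1, r2, r3, -, -, -, -, -, r4, -⟩ := Tri.w_facts
  have triv : ∀ r ∈ K, p.Maps (r : G) idM → r = 1 := fun r hr h => by
    have hA : r ∈ p.Ag.subgroupOf (normalizer (p.Ag : Set G)) := by
      rw [mem_subgroupOf]
      simpa using p.same_action h p.maps_one fun i _ => rfl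
    exact Subgroup.mem_bot.mp (hK.disjoint.le_bot ⟨hA, hr⟩)
  have eq_of : ∀ r s : ↥(normalizer (p.Ag : Set G)), r ∈ K → s ∈ K → ∀ M : List ℕ, p.Maps (r : G) M →
      p.Maps (s : G) M → r = s := by
    intro r s hr hs M hM hM'
    refine (inv_mul_eq_one.mp (triv (r⁻¹ * s) (mul_mem (inv_mem hr) hs) fun i hi => ?_))
    show (r : G)⁻¹ * s * p.gen i * ((r : G)⁻¹ * s)⁻¹ = _
    rw [show (r : G)⁻¹ * s * p.gen i * ((r : G)⁻¹ * s)⁻¹ = (r : G)⁻¹ * ((s : G) * p.gen i * (s : G)⁻¹) * r by group,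
      hM' i hi, ← hM i hi, show (r : G)⁻¹ * ((r : G) * p.gen i * (r : G)⁻¹) * r = p.gen i by group,
      show idM.getD i 0 = 2 ^ i from Dod.idM_getD i hi, p.ev_bit hi]
  have hlen : ∀ M ∈ [mW, mT, mK1, mK2], M.length = 11 := by decide +kernel
  have hlen' : ∀ M : List ℕ, M.length = 11 → ∀ A, (comp A M).length = 11 := fun M hM A => by simp [comp, hM]
  have lW := hlen mW (by simp)
  have lT := hlen mT (by simp)
  have lA := hlen mK1 (by simp)
  have lB := hlen mK2 (by simp)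
  have h3 : w * (w * w) = 1 := triv _ (mul_mem hw (mul_mem hw hw)) (by
    rw [← r1]; exact mw.mul (mw.mul mw lW) (hlen' _ lW _))
  have h2 : t * t = 1 := triv _ (mul_mem ht ht) (by rw [← r2]; exact mt.mul mt lT)
  have hi : t * (w * t) = w * w := eq_of _ _ (mul_mem ht (mul_mem hw ht)) (mul_mem hw hw) _
    (by rw [← r3]; exact mt.mul (mw.mul mt lT) (hlen' _ lT _)) (mw.mul mw lW)
  have cm : ∀ (c : ↥(normalizer (p.Ag : Set G))) (M : List ℕ), c ∈ K → p.Maps (c : G) M → M.length = 11 →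
      comp M mW = comp mW M → comp M mT = comp mT M → Commute (c : G) w ∧ Commute (c : G) t := by
    intro c M hc hM hl q1 q2
    constructor
    · exact congrArg Subtype.val (eq_of _ _ (mul_mem hc hw) (mul_mem hw hc) _ (hM.mul mw lW)
        (by rw [q1]; exact mw.mul hM hl))
    · exact congrArg Subtype.val (eq_of _ _ (mul_mem hc ht) (mul_mem ht hc) _ (hM.mul mt lT)
        (by rw [q2]; exact mt.mul hM hl))
  have h3' : (w : G) * w * w = 1 := (mul_assoc (w : G) w w).trans (congrArg Subtype.val h3)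
  have h2' : (t : G) * t = 1 := congrArg Subtype.val h2
  refine ⟨⟨p, w, t, a, b, mw, mt, ma, mb, w.2, h3', h2', ?_, ?_⟩⟩
  · have e : (t : G) * (w * t) = w * w := congrArg Subtype.val hi
    rw [inv_eq_of_mul_eq_one_right h2', mul_assoc, e]
    exact eq_inv_of_mul_eq_one_left h3'
  · intro c hc
    simp only [List.mem_cons, List.not_mem_nil, or_false] at hc
    obtain ⟨qa, qb⟩ : (comp mK1 mW = comp mW mK1 ∧ comp mK1 mT = comp mT mK1) ∧
        (comp mK2 mW = comp mW mK2 ∧ comp mK2 mT = comp mT mK2) :=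
      ⟨⟨(r4 mK1 (by simp)).1, (r4 mK1 (by simp)).2.1⟩, (r4 mK2 (by simp)).1, (r4 mK2 (by simp)).2.1⟩
    rcases hc with rfl | rfl
    · exact cm a mK1 ha ma lA qa.1 qa.2
    · exact cm b mK2 hb mb lB qb.1 qb.2

end Fr

namespace Tri

variable (p : Tri z)

theorem winv : p.w⁻¹ = p.w * p.w := inv_eq_of_mul_eq_one_left p.w3

theorem tinv : p.τ⁻¹ = p.τ := inv_eq_of_mul_eq_one_right p.tt

theorem w_pow3 : p.w ^ 3 = 1 := by rw [pow_succ, pow_two, p.w3]

theorem moves : p.w * z * p.w⁻¹ = p.s ∧ p.w * p.s * p.w⁻¹ = z * p.s ∧ p.τ * z * p.τ⁻¹ = z ∧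
    p.τ * p.s * p.τ⁻¹ = z * p.s := by
  obtain ⟨-, -, -, a, b, c, d, -, -, -⟩ := Tri.w_facts
  have h1 := p.maps_w.ev (x := 1)
  have h2 := p.maps_w.ev (x := 2)
  have h3 := p.maps_t.ev (x := 1)
  have h4 := p.maps_t.ev (x := 2)
  rw [a] at h1
  rw [b] at h2
  rw [c] at h3
  rw [d] at h4
  simp only [p.toFr.ev_z, p.toFr.ev_s, p.toFr.ev_zs] at h1 h2 h3 h4
  exact ⟨h1, h2, h3, h4⟩

theorem w_ne : p.w ≠ 1 := fun e => by
  have h := p.moves.1
  rw [e, one_mul, inv_one, mul_one] at h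
  exact p.toPt.s_ne.2 h.symm

theorem w_order : orderOf p.w = 3 := by
  haveI : Fact (Nat.Prime 3) := ⟨Nat.prime_three⟩
  exact orderOf_eq_prime p.w_pow3 p.w_ne

/-- The fixed elements of the code. -/
theorem fix_iff {x : ℕ} (hx : x < 2048) : Commute p.w (p.toFr.ev x) ↔ x ∈ fix8 := by
  constructor
  · intro h
    obtain ⟨f, -⟩ := fix_facts
    refine List.contains_iff_mem.mp (f x hx ?_)
    have := p.maps_w.ev (x := x)
    rw [h.eq, mul_inv_cancel_right] at this
    exact (p.toFr.ev_inj hx (lap_lt (by decide +kernel) x) this).symm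
  · intro h
    have := p.maps_w.ev (x := x)
    rw [(fix_facts.2 x h).2.1] at this
    exact mul_inv_eq_iff_eq_mul.mp this

theorem t_fix {x : ℕ} (h : x ∈ fix8) : Commute p.τ (p.toFr.ev x) := by
  have := p.maps_t.ev (x := x)
  rw [(fix_facts.2 x h).2.2.1] at this
  exact mul_inv_eq_iff_eq_mul.mp this

end Tri

end Cfsg.Lib.ConwayType
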