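import Cfsg.Agent.ConwayType.Locals.Three.Quot
import Cfsg.Agent.ConwayType.Locals.Frame5

/-!
The centralizer of the element of order three is the product with an alternating group of degree nine.
-/

set_option autoImplicit false
set_option synthInstance.maxSize 4096
set_option maxRecDepth 100000
set_option maxHeartbeats 1000000
set_option linter.unusedSectionVars false
set_option linter.style.haveILetI false
set_option Elab.async false

namespace Cfsg.Lib.ConwayType

open Subgroup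
open Cfsg.Lib.ConwayType.Alt9 (A8 A9 emb)

universe u

variable {G : Type u} [Group G] [Finite G] {z : G}

/-- The cycle on the first five points. -/
def five8 : A8 :=
  Alt9.el (Equiv.swap 0 1 * Equiv.swap 1 2 * Equiv.swap 2 3 * Equiv.swap 3 4)

theorem five8_order : orderOf five8 = 5 := by
  haveI : Fact (Nat.Prime 5) := ⟨by norm_num⟩
  refine orderOf_eq_prime ?_ fun h => ?_
  · refine Subtype.ext (Equiv.ext fun i => ?_)
    revert i; decide +kernel
  · have h' := congrArg (fun q : A8 => (q : Equiv.Perm (Fin 8)) 0) h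
    revert h'; decide +kernel

theorem cE_five : Commute five8 Alt9.cE ∧ Alt9.cE * Alt9.cE * Alt9.cE = 1 ∧ Alt9.cE ≠ 1 := by
  refine ⟨Alt9.eq_of_sameVal (by decide +kernel), Alt9.eq_of_sameVal (by decide +kernel), fun h => ?_⟩
  have h' := congrArg (fun q : A8 => (q : Equiv.Perm (Fin 8)) 5) h
  revert h'; decide +kernel

/-- The values of a permutation of the first five points or of the last three. -/
theorem cE_blocks : ∀ a : Fin 8, a.val < 5 ↔ (Alt9.cE : Equiv.Perm (Fin 8)) a = a := by decide +kernel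

/-- A commutator of two permutations commuting with the three-cycle fixes its points. -/
theorem commutator_fix {a b : A8} (ha : Commute a Alt9.cE) (hb : Commute b Alt9.cE) :
    ((a * b * a⁻¹ * b⁻¹ : A8) : Equiv.Perm (Fin 8)) 5 = 5 := by
  have hshift : ∀ i : Fin 8, ¬ i.val < 5 →
      i = 5 ∨ i = (Alt9.cE : Equiv.Perm (Fin 8)) 5 ∨ i = (Alt9.cE : Equiv.Perm (Fin 8)) ((Alt9.cE : Equiv.Perm (Fin 8)) 5) := by
    decide +kernel
  have blk : ∀ {c : A8}, Commute c Alt9.cE → ¬ ((c : Equiv.Perm (Fin 8)) 5).val < 5 := fun {c} hc h => by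
    have := (cE_blocks _).mp h
    rw [← Alt9.commute_apply hc] at this
    exact absurd ((c : Equiv.Perm (Fin 8)).injective this) (by decide +kernel)
  have key : (a : Equiv.Perm (Fin 8)) ((b : Equiv.Perm (Fin 8)) 5) =
      (b : Equiv.Perm (Fin 8)) ((a : Equiv.Perm (Fin 8)) 5) := by
    rcases hshift _ (blk ha) with ea | ea | ea <;> rcases hshift _ (blk hb) with eb | eb | eb <;>
      rw [ea, eb] <;>
      simp only [Alt9.commute_apply ha, Alt9.commute_apply hb, ea, eb]
  have h1 : (((b * a : A8) : Equiv.Perm (Fin 8))) 5 = ((a * b : A8) : Equiv.Perm (Fin 8)) 5 := key.symm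
  have e : a * b * a⁻¹ * b⁻¹ = a * b * (b * a)⁻¹ := by group
  have he : ∀ c : A8, ((a * b * (b * a)⁻¹ : A8) : Equiv.Perm (Fin 8)) (((b * a : A8) : Equiv.Perm (Fin 8)) 5) =
      ((a * b : A8) : Equiv.Perm (Fin 8)) 5 := fun _ => by
    show ((a * b * (b * a)⁻¹ * (b * a) : A8) : Equiv.Perm (Fin 8)) 5 = _
    rw [inv_mul_cancel_right]
  have h2 := he 1
  rw [h1] at h2
  rw [e]
  have hfix : ∀ i, ((a * b : A8) : Equiv.Perm (Fin 8)) 5 = i → ∀ c : A8, Commute c Alt9.cE →
      (c : Equiv.Perm (Fin 8)) i = i → (c : Equiv.Perm (Fin 8)) 5 = 5 := by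
    intro i hi c hc hci
    rcases hshift i (hi ▸ blk (ha.mul_left hb)) with ei | ei | ei <;> rw [ei] at hci
    · exact hci
    · rw [Alt9.commute_apply hc] at hci
      exact (Alt9.cE : Equiv.Perm (Fin 8)).injective hci
    · rw [Alt9.commute_apply hc, Alt9.commute_apply hc] at hci
      exact (Alt9.cE : Equiv.Perm (Fin 8)).injective ((Alt9.cE : Equiv.Perm (Fin 8)).injective hci)
  exact hfix _ rfl _ ((ha.mul_left hb).mul_left (hb.mul_left ha).inv_left) h2

/-- The even permutations fixing the last three points. -/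
def fix5 : Subgroup A8 where
  carrier := {a | (a : Equiv.Perm (Fin 8)) 5 = 5 ∧ (a : Equiv.Perm (Fin 8)) 6 = 6 ∧ (a : Equiv.Perm (Fin 8)) 7 = 7}
  one_mem' := ⟨rfl, rfl, rfl⟩
  mul_mem' := fun {a b} ha hb => ⟨by simp [Subgroup.coe_mul, ha.1, hb.1], by simp [Subgroup.coe_mul, ha.2.1, hb.2.1],
    by simp [Subgroup.coe_mul, ha.2.2, hb.2.2]⟩
  inv_mem' := fun {a} ha => ⟨Equiv.Perm.inv_eq_iff_eq.mpr ha.1.symm, Equiv.Perm.inv_eq_iff_eq.mpr ha.2.1.symm,
    Equiv.Perm.inv_eq_iff_eq.mpr ha.2.2.symm⟩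

theorem fix5_card : Nat.card ↥fix5 ≤ 60 := by
  classical
  let P := {σ : Equiv.Perm (Fin 5) // Equiv.Perm.sign σ = 1}
  have hP : Nat.card P = 60 := by
    rw [Nat.card_eq_fintype_card]; decide +kernel
  have low : ∀ a ∈ fix5, ∀ i : Fin 8, i.val < 5 → ((a : A8) : Equiv.Perm (Fin 8)) i < (5 : Fin 8) := by
    intro a ha i hi
    by_contra hn
    have : ((a : A8) : Equiv.Perm (Fin 8)) i = 5 ∨ ((a : A8) : Equiv.Perm (Fin 8)) i = 6 ∨
        ((a : A8) : Equiv.Perm (Fin 8)) i = 7 := by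
      revert hn; generalize ((a : A8) : Equiv.Perm (Fin 8)) i = j; revert j; decide +kernel
    obtain ⟨h5, h6, h7⟩ := ha
    rcases this with h | h | h
    · rw [← h5] at h; have := Equiv.injective _ h; subst this; exact absurd hi (by decide)
    · rw [← h6] at h; have := Equiv.injective _ h; subst this; exact absurd hi (by decide)
    · rw [← h7] at h; have := Equiv.injective _ h; subst this; exact absurd hi (by decide)
  have pres : ∀ a ∈ fix5, ∀ i : Fin 8, i.val < 5 ↔ (((a : A8) : Equiv.Perm (Fin 8)) i).val < 5 := by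
    intro a ha i
    refine ⟨fun h => low a ha i h, fun h => ?_⟩
    have := low a⁻¹ (inv_mem ha) _ h
    rw [InvMemClass.coe_inv] at this
    have h5 : i < (5 : Fin 8) := by simpa using this
    exact h5
  let F : ↥fix5 → P := fun a => ⟨(Fin.castLEquiv (n := 5) (m := 8) (by norm_num)).symm.permCongr
    (((a : A8) : Equiv.Perm (Fin 8)).subtypePerm fun i => (pres a a.2 i).symm), by
      rw [Equiv.Perm.sign_permCongr, Equiv.Perm.sign_subtypePerm]
      · exact Equiv.Perm.mem_alternatingGroup.mp (a : A8).2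
      · intro i hi
        by_contra hn
        have : i = 5 ∨ i = 6 ∨ i = 7 := by
          clear hi; revert hn; revert i; decide +kernel
        rcases this with rfl | rfl | rfl
        exacts [hi a.2.1, hi a.2.2.1, hi a.2.2.2]⟩
  have hF : Function.Injective F := fun a b h => by
    refine Subtype.ext (Subtype.ext (Equiv.ext fun i => ?_))
    by_cases hi : i.val < 5
    · have h' := congrArg (fun s : P => (Fin.castLEquiv (n := 5) (m := 8) (by norm_num))
        (s.1 ((Fin.castLEquiv (n := 5) (m := 8) (by norm_num)).symm ⟨i, hi⟩))) h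
      simpa [F, Equiv.permCongr_apply, Subtype.ext_iff] using h'
    · have : i = 5 ∨ i = 6 ∨ i = 7 := by clear h; revert hi; revert i; decide +kernel
      rcases this with rfl | rfl | rfl
      exacts [a.2.1.trans b.2.1.symm, a.2.2.1.trans b.2.2.1.symm, a.2.2.2.trans b.2.2.2.symm]
  exact (Nat.card_le_card_of_injective F hF).trans hP.le

theorem small_gens : Alt9.c0 ∈ fix5 ∧ Alt9.k1 ∈ fix5 ∧ Alt9.h34 ∈ fix5 := by
  refine ⟨⟨?_, ?_, ?_⟩, ⟨?_, ?_, ?_⟩, ?_, ?_, ?_⟩ <;> decide +kernel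

theorem alt_five_facts {H : Type*} [Group H] (e : H ≃* alternatingGroup (Fin 5)) :
    commutator H = ⊤ ∧ center H = ⊥ ∧ Nat.card H = 60 := by
  haveI : IsSimpleGroup H := e.isSimpleGroup
  have h60 : Nat.card H = 60 := (Nat.card_congr e.toEquiv).trans Five.sixty
  have hnc : ¬ IsMulCommutative H := fun hc => by
    haveI := hc
    have := (Group.is_simple_iff_prime_card (α := H)).mp inferInstance
    rw [h60] at this
    norm_num at this
  refine ⟨(IsSimpleGroup.eq_bot_or_eq_top_of_normal _ inferInstance).resolve_left fun h => hnc ⟨⟨fun a b =>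
      commutatorElement_eq_one_iff_mul_comm.mp
        (Subgroup.mem_bot.mp (h ▸ commutator_mem_commutator (mem_top a) (mem_top b)))⟩⟩,
    (IsSimpleGroup.eq_bot_or_eq_top_of_normal _ inferInstance).resolve_right fun h =>
      hnc ⟨⟨fun a b => mem_center_iff.mp (h ▸ mem_top b) a⟩⟩, h60⟩

namespace Tri

variable (p : Tri z)

theorem iota8_five : Commute (p.iota8 five8) z ∧ Commute (p.iota8 five8) p.s ∧ orderOf (p.iota8 five8) = 5 :=
  ⟨(p.toPt.mem_Tg.mp (p.iota8_T _)).1, (p.toPt.mem_Tg.mp (p.iota8_T _)).2,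
    (orderOf_injective p.iota8 p.iota8_inj _).trans five8_order⟩

/-- The frame of the standard element of order five. -/
noncomputable def frame : FiveFrame p.toFr (p.iota8 five8) :=
  (p.toFr.exists_frame p.iota8_five.1 p.iota8_five.2.1 p.iota8_five.2.2).some

theorem mem_J {x : G} (n : ℕ) (hn : ¬ 5 ∣ n) (hx : x ^ n = 1) (hb : Commute x (p.iota8 five8)) : x ∈ p.frame.J := by
  obtain ⟨i, j, hj, rfl⟩ := p.frame.cent x hb
  obtain ⟨e⟩ := p.frame.alt
  have hjb : Commute j (p.iota8 five8) :=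
    (mem_centralizer_iff.mp (p.frame.J_eq ▸ hj : j ∈ centralizer (p.frame.F : Set G)) _ p.frame.bF).symm
  rw [(hjb.symm.pow_left i).mul_pow, ← pow_mul] at hx
  have hbF : p.iota8 five8 ^ (i * n) ∈ p.frame.F := pow_mem p.frame.bF _
  have hbJ : p.iota8 five8 ^ (i * n) ∈ centralizer (p.frame.F : Set G) := by
    rw [← p.frame.J_eq, eq_inv_of_mul_eq_one_left hx]
    exact inv_mem (pow_mem hj n)
  have hone : p.iota8 five8 ^ (i * n) = 1 := by
    have : (⟨_, hbF⟩ : ↥p.frame.F) ∈ center ↥p.frame.F :=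
      mem_center_iff.mpr fun y => Subtype.ext (mem_centralizer_iff.mp hbJ y y.2)
    rw [(alt_five_facts e).2.1, Subgroup.mem_bot] at this
    exact congrArg Subtype.val this
  have h5 : 5 ∣ i := by
    have := orderOf_dvd_of_pow_eq_one hone
    rw [p.iota8_five.2.2] at this
    exact (((by norm_num : Nat.Prime 5).dvd_mul).mp this).resolve_right hn
  obtain ⟨k, rfl⟩ := h5
  rw [pow_mul, ← p.iota8_five.2.2, pow_orderOf_eq_one, one_pow, one_mul]
  exact hj

theorem J_members : z ∈ p.frame.J ∧ p.s ∈ p.frame.J ∧ p.w ∈ p.frame.J ∧ p.τ ∈ p.frame.J ∧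
    p.iota8 Alt9.cE ∈ p.frame.J :=
  ⟨p.mem_J 2 (by norm_num) (by rw [pow_two, p.X.zz]) p.iota8_five.1.symm,
    p.mem_J 2 (by norm_num) (by rw [pow_two, p.toPt.ss]) p.iota8_five.2.1.symm,
    p.mem_J 3 (by norm_num) p.w_pow3 (p.iota8_w _).symm,
    p.mem_J 2 (by norm_num) (by rw [pow_two, p.tt]) (p.iota8_t _).symm,
    p.mem_J 3 (by norm_num) (by rw [← map_pow, pow_succ, pow_two, cE_five.2.1, map_one]) (cE_five.1.symm.map p.iota8)⟩

theorem F_comm {x : G} (hx : x ∈ p.frame.J) {f : G} (hf : f ∈ p.frame.F) : Commute f x :=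
  mem_centralizer_iff.mp (p.frame.J_eq ▸ hx : x ∈ centralizer (p.frame.F : Set G)) f hf

/-- The first factor is the alternating group on the first five points. -/
theorem F_eq : p.frame.F = fix5.map p.iota8 := by
  classical
  obtain ⟨hz, hs, hw, -, hc⟩ := p.J_members
  obtain ⟨e⟩ := p.frame.alt
  obtain ⟨hperf, -, hcard⟩ := alt_five_facts e
  have pre : ∀ f ∈ p.frame.F, ∃ a : A8, p.iota8 a = f ∧ Commute a Alt9.cE := by
    intro f hf
    obtain ⟨a, rfl⟩ := p.iota8_range (p.mem_L8.mpr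
      ⟨p.toPt.mem_Tg.mpr ⟨p.F_comm hz hf, p.F_comm hs hf⟩, p.F_comm hw hf⟩)
    exact ⟨a, rfl, p.iota8_inj (by rw [map_mul, map_mul]; exact (p.F_comm hc hf).eq)⟩
  let T : Subgroup A8 :=
    { carrier := {a | (a : Equiv.Perm (Fin 8)) 5 = 5 ∧ Commute a Alt9.cE}
      one_mem' := ⟨rfl, Commute.one_left _⟩
      mul_mem' := fun {a b} ha hb => ⟨by simp [Subgroup.coe_mul, ha.1, hb.1], ha.2.mul_left hb.2⟩
      inv_mem' := fun {a} ha => ⟨Equiv.Perm.inv_eq_iff_eq.mpr ha.1.symm, ha.2.inv_left⟩ }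
  have hTle : T ≤ fix5 := fun a ha => by
    have h6 : (Alt9.cE : Equiv.Perm (Fin 8)) 5 = 6 ∧ (Alt9.cE : Equiv.Perm (Fin 8)) 6 = 7 := by decide +kernel
    have a6 : (a : Equiv.Perm (Fin 8)) 6 = 6 := by
      have := Alt9.commute_apply ha.2 5
      rwa [ha.1, h6.1] at this
    refine ⟨ha.1, a6, ?_⟩
    have := Alt9.commute_apply ha.2 6
    rwa [a6, h6.2] at this
  have hsub : p.frame.F ≤ fix5.map p.iota8 := by
    refine le_trans ?_ (Subgroup.map_mono hTle)
    have h1 : (commutator ↥p.frame.F).map p.frame.F.subtype ≤ T.map p.iota8 := by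
      rw [_root_.commutator_def, Subgroup.map_commutator, commutator_le]
      rintro x hx y hy
      obtain ⟨a, rfl, ha⟩ := pre x (map_subtype_le _ hx)
      obtain ⟨b, rfl, hb⟩ := pre y (map_subtype_le _ hy)
      refine ⟨a * b * a⁻¹ * b⁻¹, ⟨commutator_fix ha hb, ((ha.mul_left hb).mul_left ha.inv_left).mul_left hb.inv_left⟩, ?_⟩
      rw [map_mul, map_mul, map_mul, map_inv, map_inv]
      rfl
    rwa [hperf, ← MonoidHom.range_eq_map, Subgroup.range_subtype] at h1
  refine eq_of_le_of_card_ge hsub ?_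
  rw [card_map_of_injective p.iota8_inj, hcard]
  exact fix5_card

/-- The centralizer of the element of order three. -/
abbrev Cw : Subgroup G := centralizer ({p.w} : Set G)

/-- Its cyclic normal subgroup. -/
abbrev Wn : Subgroup ↥p.Cw := (zpowers p.w).subgroupOf p.Cw

instance Wn_normal : p.Wn.Normal := ⟨fun n hn g => by
  obtain ⟨j, hj⟩ := mem_zpowers_iff.mp (mem_subgroupOf.mp hn)
  have : g * n * g⁻¹ = n := Subtype.ext (by
    show (g : G) * n * (g : G)⁻¹ = n
    rw [← hj]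
    exact mul_inv_eq_iff_eq_mul.mpr (Commute.zpow_right (mem_centralizer_singleton_iff.mp g.2 : Commute (g : G) p.w) j))
  rwa [this]⟩

theorem mem_Wn {y : ↥p.Cw} : y ∈ p.Wn ↔ ∃ k : ℕ, p.w ^ k = (y : G) := by
  rw [mem_subgroupOf]
  rw [← mem_powers_iff_mem_zpowers, Submonoid.mem_powers_iff]

/-- The alternating group of degree eight in the quotient. -/
noncomputable def iotaX : A8 →* ↥p.Cw ⧸ p.Wn :=
  (QuotientGroup.mk' p.Wn).comp (p.iota8.codRestrict p.Cw fun π => mem_centralizer_singleton_iff.mpr (p.iota8_w π))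

theorem iotaX_eq {π : A8} {y : ↥p.Cw} : p.iotaX π = QuotientGroup.mk y ↔ ∃ k : ℕ, (y : G) = p.iota8 π * p.w ^ k := by
  show QuotientGroup.mk (⟨p.iota8 π, _⟩ : ↥p.Cw) = QuotientGroup.mk y ↔ _
  rw [QuotientGroup.eq, mem_Wn]
  refine exists_congr fun k => ?_
  show p.w ^ k = (p.iota8 π)⁻¹ * (y : G) ↔ _
  exact ⟨fun e => by rw [e, mul_inv_cancel_left], fun e => by rw [e, inv_mul_cancel_left]⟩

/-- The hypothesis for recognising the alternating group of degree nine. -/
theorem alt_hyp : ∃ H : Alt9.Hyp (↥p.Cw ⧸ p.Wn), H.ι = p.iotaX := by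
  classical
  have hinj : Function.Injective p.iotaX := fun a b e => by
    obtain ⟨k, hk⟩ := (p.iotaX_eq (π := a) (y := ⟨p.iota8 b, mem_centralizer_singleton_iff.mpr (p.iota8_w b)⟩)).mp e
    exact ((p.decomp_unique (k := 0) (l := k) (π := b) (ρ := a) (by
      rw [pow_zero, one_mul, ← (p.iota8_pow_comm a k).eq]; exact hk)).2).symm
  have lift : ∀ (g : ↥p.Cw) (a b : A8), a * a = 1 → b * b = 1 →
      QuotientGroup.mk g * p.iotaX a * (QuotientGroup.mk g)⁻¹ = p.iotaX b →
      (g : G) * p.iota8 a * (g : G)⁻¹ = p.iota8 b := by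
    intro g a b ha hb e
    obtain ⟨k, hk⟩ := (p.iotaX_eq (π := b)
      (y := g * ⟨p.iota8 a, mem_centralizer_singleton_iff.mpr (p.iota8_w a)⟩ * g⁻¹)).mp (e.symm.trans rfl)
    have hk' : (g : G) * p.iota8 a * (g : G)⁻¹ = p.iota8 b * p.w ^ k := hk
    have hsq : p.iota8 b * p.w ^ k * (p.iota8 b * p.w ^ k) = 1 := by
      rw [← hk', show (g : G) * p.iota8 a * (g : G)⁻¹ * ((g : G) * p.iota8 a * (g : G)⁻¹) =
        g * p.iota8 (a * a) * (g : G)⁻¹ by rw [map_mul]; group, ha, map_one, mul_one, mul_inv_cancel]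
    rw [(p.iota8_pow_comm b k).symm.mul_mul_mul_comm, ← map_mul, hb, map_one, one_mul, ← pow_add] at hsq
    have h3 : p.w ^ (3 * k) = 1 := by rw [pow_mul, p.w_pow3, one_pow]
    rw [show 3 * k = k + (k + k) by ring, pow_add, hsq, mul_one] at h3
    rw [hk', h3, mul_one]
  obtain ⟨he0, hk1⟩ : Alt9.e0 * Alt9.e0 = 1 ∧ Alt9.k1 * Alt9.k1 = 1 :=
    ⟨Alt9.eq_of_sameVal (by decide +kernel), Alt9.eq_of_sameVal (by decide +kernel)⟩
  refine ⟨⟨p.iotaX, hinj, fun y hy => ?_, fun h => ?_, ?_⟩, rfl⟩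
  · obtain ⟨g, rfl⟩ := QuotientGroup.mk_surjective y
    have := lift g _ _ he0 he0 (mul_inv_eq_iff_eq_mul.mpr hy.eq)
    rw [p.iota8_e0] at this
    obtain ⟨k, π, e, -⟩ := p.cent_e1 (mem_centralizer_singleton_iff.mp g.2) (mul_inv_eq_iff_eq_mul.mp this)
    exact ⟨π, p.iotaX_eq.mpr ⟨k, by rw [e, (p.iota8_pow_comm π k).eq]⟩⟩
  · obtain ⟨y, hy⟩ := isConj_iff.mp h
    obtain ⟨g, rfl⟩ := QuotientGroup.mk_surjective y
    have := lift g _ _ hk1 he0 hy
    rw [p.iota8_e0] at this
    exact p.not_fused8 (mem_centralizer_singleton_iff.mp g.2) this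
  · obtain ⟨-, -, hw, -, -⟩ := p.J_members
    let S := p.frame.J ⊓ p.Cw
    have h36 : 36 ≤ Nat.card ↥S := p.frame.three p.w hw p.w_order
    let f : ↥S →* ↥p.Cw ⧸ p.Wn := (QuotientGroup.mk' p.Wn).comp (Subgroup.inclusion inf_le_right)
    have hker : Nat.card ↥f.ker ≤ 3 := by
      have hmem : ∀ x : ↥f.ker, ((x : ↥S) : G) ∈ zpowers p.w := fun x =>
        mem_subgroupOf.mp ((QuotientGroup.eq_one_iff (Subgroup.inclusion inf_le_right (x : ↥S))).mp x.2)
      have := Nat.card_le_card_of_injective (fun x : ↥f.ker => (⟨_, hmem x⟩ : ↥(zpowers p.w)))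
        fun a b e => Subtype.ext (Subtype.ext (congrArg Subtype.val e :))
      rwa [Nat.card_zpowers, p.w_order] at this
    have hsub : f.range ≤
        centralizer ({p.iotaX Alt9.c0, p.iotaX Alt9.k1, p.iotaX Alt9.h34} : Set (↥p.Cw ⧸ p.Wn)) := by
      rintro _ ⟨x, rfl⟩
      obtain ⟨m0, m1, m2⟩ := small_gens
      refine mem_centralizer_iff.mpr fun v hv => ?_
      have key : ∀ a ∈ fix5, p.iotaX a * f x = f x * p.iotaX a := fun a ha => by
        refine congrArg QuotientGroup.mk (Subtype.ext ?_ :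
          (⟨p.iota8 a, mem_centralizer_singleton_iff.mpr (p.iota8_w a)⟩ : ↥p.Cw) * Subgroup.inclusion inf_le_right x =
            Subgroup.inclusion inf_le_right x * ⟨p.iota8 a, mem_centralizer_singleton_iff.mpr (p.iota8_w a)⟩)
        exact (p.F_comm (Subgroup.mem_inf.mp x.2).1 (p.F_eq.ge ⟨a, ha, rfl⟩)).eq
      simp only [Set.mem_insert_iff, Set.mem_singleton_iff] at hv
      rcases hv with rfl | rfl | rfl
      exacts [key _ m0, key _ m1, key _ m2]
    have hcard := f.ker.card_eq_card_quotient_mul_card_subgroup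
    rw [Nat.card_congr (QuotientGroup.quotientKerEquivRange f).toEquiv] at hcard
    have hle := card_le_of_le hsub
    nlinarith

end Tri

end Cfsg.Lib.ConwayType
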