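import Cfsg.Agent.ConwayType.Locals.Three.Nine

/-!
The normalizer of the subgroup of order three.
-/

set_option autoImplicit false
set_option synthInstance.maxSize 4096
set_option maxRecDepth 100000
set_option maxHeartbeats 1000000
set_option linter.unusedSectionVars false
set_option linter.style.haveILetI false
set_option Elab.async false

namespace Cfsg.Lib.ConwayType

open Subgroup
open Cfsg.Lib.ConwayType.Alt9 (A8 A9 emb)

universe u

variable {G : Type u} [Group G] [Finite G] {z : G}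

namespace Tri

/-- The permutation missing from the smaller alternating group. -/
def last9 : A9 := Alt9.el9 (Equiv.swap 0 1 * Equiv.swap 7 8)

theorem gens9_last : Alt9.gens9 (Fin.last 6) = last9 := rfl

theorem gens9_emb (i : Fin 6) : Alt9.gens9 i.castSucc = emb (AltEightLocal.gens i) :=
  (Alt9.emb_eq (fun j => by revert i j; decide +kernel) (by revert i; decide +kernel)).symm

theorem closure9 : closure (Set.range Alt9.gens9) = (⊤ : Subgroup A9) := by
  obtain ⟨e, he⟩ := Alt9.gens9_iso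
  have h := congrArg (Subgroup.map e.toMonoidHom) (PresentedGroup.closure_range_of Alt9.rels9)
  rw [MonoidHom.map_closure, ← Set.range_comp, Subgroup.map_top_of_surjective _ e.surjective] at h
  rw [← h]
  congr 1
  exact congrArg Set.range (funext fun i => (he i).symm)

/-- The three-cycles on the middle five points and the double transposition on the first four. -/
def midGens : List A8 :=
  [Alt9.el (Equiv.swap 2 3 * Equiv.swap 3 4), Alt9.el (Equiv.swap 3 4 * Equiv.swap 4 5),
    Alt9.el (Equiv.swap 4 5 * Equiv.swap 5 6), Alt9.k1]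

/-- The images of the four permutations in degree nine. -/
def m234 : Equiv.Perm (Fin 9) := Equiv.swap 2 3 * Equiv.swap 3 4

/-- The second three-cycle. -/
def m345 : Equiv.Perm (Fin 9) := Equiv.swap 3 4 * Equiv.swap 4 5

/-- The third three-cycle. -/
def m456 : Equiv.Perm (Fin 9) := Equiv.swap 4 5 * Equiv.swap 5 6

/-- The double transposition. -/
def m0123 : Equiv.Perm (Fin 9) := Equiv.swap 0 1 * Equiv.swap 2 3

theorem mid_fix : ∀ i : Fin 9, (m234 i ≠ i ∨
    m345 i ≠ i ∨ m456 i ≠ i) ↔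
      (2 ≤ i.val ∧ i.val ≤ 6) := by decide +kernel

/-- The values on the four outer points determine a permutation fixing the middle ones. -/
def outerFun (a b c d : Fin 9) : Fin 9 → Fin 9 := ![a, b, 2, 3, 4, 5, 6, c, d]

theorem outer_values : ∀ a b c d : Fin 9, a ∈ ([0, 1, 7, 8] : List (Fin 9)) → b ∈ ([0, 1, 7, 8] : List (Fin 9)) →
    c ∈ ([0, 1, 7, 8] : List (Fin 9)) → d ∈ ([0, 1, 7, 8] : List (Fin 9)) →
    (∀ i, outerFun a b c d (outerFun a b c d i) = i) →
    (∀ i, m0123 (outerFun a b c d i) =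
      outerFun a b c d (m0123 i)) →
    (∀ i, outerFun a b c d i = i) ∨ (∀ i, outerFun a b c d i = (last9 : Equiv.Perm (Fin 9)) i) ∨
      (∀ i, outerFun a b c d i = Equiv.swap (0 : Fin 9) 1 i) ∨ ∀ i, outerFun a b c d i = Equiv.swap (7 : Fin 9) 8 i := by
  decide +kernel

theorem emb_mid : ∀ i : Fin 9,
    (emb (Alt9.el (Equiv.swap 2 3 * Equiv.swap 3 4)) : Equiv.Perm (Fin 9)) i =
        m234 i ∧
      (emb (Alt9.el (Equiv.swap 3 4 * Equiv.swap 4 5)) : Equiv.Perm (Fin 9)) i =
        m345 i ∧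
      (emb (Alt9.el (Equiv.swap 4 5 * Equiv.swap 5 6)) : Equiv.Perm (Fin 9)) i =
        m456 i ∧
      (emb Alt9.k1 : Equiv.Perm (Fin 9)) i = m0123 i := by
  intro i
  induction i using Fin.lastCases with
  | last => simp only [Alt9.emb_last]; decide +kernel
  | cast j => simp only [Alt9.emb_castSucc]; revert j; decide +kernel

/-- An involution commuting with them is trivial or the missing one. -/
theorem unique_last {σ : A9} (h2 : σ * σ = 1) (h : ∀ a ∈ midGens, Commute σ (emb a)) : σ = 1 ∨ σ = last9 := by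
  set f := (σ : Equiv.Perm (Fin 9))
  have c : ∀ a ∈ midGens, ∀ i, f ((emb a : Equiv.Perm (Fin 9)) i) = (emb a : Equiv.Perm (Fin 9)) (f i) :=
    fun a ha i => congrArg (fun q : A9 => (q : Equiv.Perm (Fin 9)) i) (h a ha).eq
  have c1 := fun i => c _ (by simp [midGens] : Alt9.el (Equiv.swap 2 3 * Equiv.swap 3 4) ∈ midGens) i
  have c2 := fun i => c _ (by simp [midGens] : Alt9.el (Equiv.swap 3 4 * Equiv.swap 4 5) ∈ midGens) i
  have c3 := fun i => c _ (by simp [midGens] : Alt9.el (Equiv.swap 4 5 * Equiv.swap 5 6) ∈ midGens) i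
  have c4 := fun i => c _ (by simp [midGens] : Alt9.k1 ∈ midGens) i
  simp only [(emb_mid _).1] at c1
  simp only [(emb_mid _).2.1] at c2
  simp only [(emb_mid _).2.2.1] at c3
  simp only [(emb_mid _).2.2.2] at c4
  have supp : ∀ (π : Equiv.Perm (Fin 9)), (∀ i, f (π i) = π (f i)) → ∀ i, π i = i ↔ π (f i) = f i :=
    fun π hπ i => ⟨fun e => by rw [← hπ, e], fun e => f.injective (by rw [hπ, e])⟩
  have s1 := supp _ c1
  have s2 := supp _ c2
  have s3 := supp _ c3
  have out : ∀ i : Fin 9, i ∈ ([0, 1, 7, 8] : List (Fin 9)) → f i ∈ ([0, 1, 7, 8] : List (Fin 9)) := by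
    intro i hi
    have hn : ¬ (2 ≤ i.val ∧ i.val ≤ 6) :=
      ((by decide +kernel : ∀ i : Fin 9, i ∈ ([0, 1, 7, 8] : List (Fin 9)) → ¬ (2 ≤ i.val ∧ i.val ≤ 6)) i hi)
    rw [← mid_fix, not_or, not_or, not_not, not_not, not_not, s1 i, s2 i, s3 i] at hn
    refine ((by decide +kernel : ∀ j : Fin 9, ¬ (2 ≤ j.val ∧ j.val ≤ 6) → j ∈ ([0, 1, 7, 8] : List (Fin 9))) _ ?_)
    rw [← mid_fix, not_or, not_or, not_not, not_not, not_not]
    exact hn
  have fix234 : f 4 = 4 := by
    have key : ∀ j : Fin 9, (m234 j ≠ j) →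
        (m345 j ≠ j) →
        (m456 j ≠ j) → j = 4 := by decide +kernel
    exact key _ (fun e => absurd ((s1 4).mpr e) (by decide +kernel)) (fun e => absurd ((s2 4).mpr e) (by decide +kernel))
      (fun e => absurd ((s3 4).mpr e) (by decide +kernel))
  have f2 : f 2 = 2 := by
    have := c1 4
    rw [fix234] at this
    exact this
  have f3 : f 3 = 3 := by
    have := c1 2
    rw [f2] at this
    exact this
  have f5 : f 5 = 5 := by
    have := c2 4
    rw [fix234] at this
    exact this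
  have f6 : f 6 = 6 := by
    have := c3 5
    rw [f5] at this
    exact this
  have hf : ∀ i, f i = outerFun (f 0) (f 1) (f 7) (f 8) i := fun i => by
    fin_cases i
    exacts [rfl, rfl, f2, f3, fix234, f5, f6, rfl, rfl]
  have hsign := Equiv.Perm.mem_alternatingGroup.mp σ.2
  rcases outer_values _ _ _ _ (out 0 (by simp)) (out 1 (by simp)) (out 7 (by simp)) (out 8 (by simp))
      (fun i => by rw [← hf, ← hf]; exact congrArg (fun q : A9 => (q : Equiv.Perm (Fin 9)) i) h2)
      (fun i => by rw [← hf, ← hf]; exact (c4 i).symm) with e | e | e | e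
  · exact Or.inl (Subtype.ext (Equiv.ext fun i => (hf i).trans (e i)))
  · exact Or.inr (Subtype.ext (Equiv.ext fun i => (hf i).trans (e i)))
  · exfalso
    rw [show (σ : Equiv.Perm (Fin 9)) = Equiv.swap 0 1 from Equiv.ext fun i => (hf i).trans (e i),
      Equiv.Perm.sign_swap (by decide)] at hsign
    exact absurd hsign (by decide)
  · exfalso
    rw [show (σ : Equiv.Perm (Fin 9)) = Equiv.swap 7 8 from Equiv.ext fun i => (hf i).trans (e i),
      Equiv.Perm.sign_swap (by decide)] at hsign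
    exact absurd hsign (by decide)

/-- The exponent of the three-cycle in a permutation of three points. -/
def rExp (σ : Equiv.Perm (Fin 3)) : ℕ := (σ 2).val.succ % 3

/-- Whether a permutation of three points is odd. -/
def sExp (σ : Equiv.Perm (Fin 3)) : Bool := decide (Equiv.Perm.sign σ = -1)

theorem three_law : ∀ σ ρ : Equiv.Perm (Fin 3), sExp (σ * ρ) = (sExp σ ^^ sExp ρ) ∧
    rExp (σ * ρ) % 3 = (rExp σ + (bif sExp σ then 2 else 1) * rExp ρ) % 3 ∧
    (rExp σ % 3 = 0 → sExp σ = false → σ = 1) := by decide +kernel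

variable (p : Tri z)

/-- The image of a permutation of three points. -/
def three (σ : Equiv.Perm (Fin 3)) : G := p.w ^ rExp σ * (bif sExp σ then p.τ else 1)

theorem w_mod {a b : ℕ} (h : a % 3 = b % 3) : p.w ^ a = p.w ^ b := by
  rw [← pow_mod_orderOf p.w a, ← pow_mod_orderOf p.w b, p.w_order, h]

theorem w_eq {a b : ℕ} (h : p.w ^ a = p.w ^ b) : a % 3 = b % 3 := by
  have := pow_eq_pow_iff_modEq.mp h
  rw [p.w_order] at this
  exact this

theorem t_pow (k : ℕ) : p.τ * p.w ^ k = p.w ^ (2 * k) * p.τ := by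
  rw [← mul_inv_eq_iff_eq_mul, ← conj_pow, p.inv, p.winv, ← pow_two, ← pow_mul]

theorem three_mul (σ ρ : Equiv.Perm (Fin 3)) : p.three (σ * ρ) = p.three σ * p.three ρ := by
  obtain ⟨h1, h2, -⟩ := three_law σ ρ
  unfold three
  rw [h1, p.w_mod h2, pow_add]
  cases sExp σ <;> cases sExp ρ
  · simp
  · simp [mul_assoc]
  · simp only [Bool.true_xor, Bool.not_false, cond_true, cond_false, mul_one, mul_assoc, p.t_pow]
  · simp only [Bool.true_xor, Bool.not_true, cond_true, cond_false, mul_one]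
    rw [mul_assoc (p.w ^ rExp σ) p.τ, ← mul_assoc p.τ, p.t_pow, mul_assoc _ p.τ p.τ, p.tt, mul_one]

theorem t_not_mem : ∀ k : ℕ, p.w ^ k ≠ p.τ := fun k e => by
  have h3 : p.τ ^ 3 = 1 := by rw [← e, ← pow_mul, mul_comm, pow_mul, p.w_pow3, one_pow]
  rw [pow_succ, pow_two, p.tt, one_mul] at h3
  obtain ⟨-, -, -, h4⟩ := p.moves
  rw [h3] at h4
  simp only [one_mul, inv_one, mul_one] at h4
  exact p.X.ne (mul_eq_right.mp h4.symm)

/-- A product decomposition of the normalizer. -/
theorem exists_s9 : ∃ φ : A9 →* G, Function.Injective φ ∧ (∀ π, φ (emb π) = p.iota8 π) ∧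
    (∀ π, Commute (φ π) p.w ∧ Commute (φ π) p.τ) ∧ ∀ y, Commute y p.w → ∃ (k : ℕ) (π : A9), y = p.w ^ k * φ π := by
  classical
  obtain ⟨H, hH⟩ := p.alt_hyp
  obtain ⟨e, he⟩ := H.exists_iso
  rw [hH] at he
  set mk := QuotientGroup.mk' p.Wn
  have tinvw : ∀ k : ℕ, p.τ * p.w ^ k * p.τ⁻¹ = p.w ^ (2 * k) := fun k => mul_inv_eq_iff_eq_mul.mpr (p.t_pow k)
  have tC : ∀ y : G, Commute y p.w → Commute (p.τ * y * p.τ⁻¹) p.w := fun y hy => by
    have := (Commute.conj_iff p.τ).mpr hy.inv_right
    rwa [show p.τ * p.w⁻¹ * p.τ⁻¹ = (p.τ * p.w * p.τ⁻¹)⁻¹ by group, p.inv, inv_inv] at this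
  let tw : ↥p.Cw → ↥p.Cw := fun y =>
    ⟨p.τ * y * p.τ⁻¹, mem_centralizer_singleton_iff.mpr (tC y (mem_centralizer_singleton_iff.mp y.2))⟩
  have twmul : ∀ a b, tw (a * b) = tw a * tw b := fun a b => Subtype.ext (by simp [tw, mul_assoc])
  have twmk : ∀ a b : ↥p.Cw, mk a = mk b → mk (tw a) = mk (tw b) := fun a b h => by
    refine QuotientGroup.eq.mpr (p.mem_Wn.mpr ?_)
    obtain ⟨k, hk⟩ := p.mem_Wn.mp (QuotientGroup.eq.mp h)
    refine ⟨2 * k, ?_⟩
    rw [← tinvw, hk]
    simp [tw, mul_assoc]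
  choose rep hrep using QuotientGroup.mk'_surjective p.Wn
  let α : A9 → A9 := fun π => e.symm (mk (tw (rep (e π))))
  have αe : ∀ π, e (α π) = mk (tw (rep (e π))) := fun π => e.apply_symm_apply _
  have αmk : ∀ π y, mk y = e π → e (α π) = mk (tw y) := fun π y hy => by
    rw [αe]; exact twmk _ _ ((hrep _).trans hy.symm)
  have αmul : ∀ a b, α (a * b) = α a * α b := fun a b => e.injective (by
    rw [map_mul, αe a, αe b, ← map_mul, ← twmul]
    exact αmk _ _ (by rw [map_mul, map_mul]; exact congrArg₂ (· * ·) (hrep _) (hrep _)))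
  have αemb : ∀ π, α (emb π) = emb π := fun π => e.injective (by
    rw [αmk (emb π) ⟨p.iota8 π, mem_centralizer_singleton_iff.mpr (p.iota8_w π)⟩ (by rw [he]; rfl), he]
    refine congrArg mk (Subtype.ext ?_)
    exact mul_inv_eq_iff_eq_mul.mpr (p.iota8_t π).symm.eq)
  have αone : α 1 = 1 := by simpa using (αmul 1 1).symm
  have hlast : last9 * last9 = 1 ∧ last9 ≠ 1 ∧ ∀ a ∈ midGens, Commute last9 (emb a) := by
    refine ⟨?_, ?_, fun a ha => ?_⟩
    · exact Subtype.ext (Equiv.ext fun i => by revert i; decide +kernel)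
    · intro h
      have h' := congrArg (fun q : A9 => (q : Equiv.Perm (Fin 9)) 0) h
      revert h'; decide +kernel
    · refine Subtype.ext (Equiv.ext fun i => ?_)
      simp only [midGens, List.mem_cons, List.not_mem_nil, or_false] at ha
      rcases ha with rfl | rfl | rfl | rfl <;>
        simp only [Subgroup.coe_mul, Equiv.Perm.mul_apply, (emb_mid _).1, (emb_mid _).2.1, (emb_mid _).2.2.1,
          (emb_mid _).2.2.2] <;>
        (revert i; decide +kernel)
  have αinj : Function.Injective α := fun a b h => by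
    refine e.injective ?_
    rw [← hrep (e a), ← hrep (e b)]
    refine QuotientGroup.eq.mpr (p.mem_Wn.mpr ?_)
    obtain ⟨k, hk⟩ := p.mem_Wn.mp (QuotientGroup.eq.mp ((αe a).symm.trans ((congrArg e h).trans (αe b))))
    refine ⟨2 * k, ?_⟩
    rw [← tinvw, hk]
    simp only [tw, Subgroup.coe_mul, Subgroup.coe_inv]
    have ht := inv_eq_of_mul_eq_one_right p.tt
    simp only [ht, mul_inv_rev, mul_assoc]
    simp only [← mul_assoc, p.tt, one_mul, mul_one]
  have αlast : α last9 = last9 := by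
    obtain ⟨l2, l1, lc⟩ := hlast
    rcases unique_last (σ := α last9) (by rw [← αmul, l2, αone]) (fun a ha => by
      show _ = _
      rw [← αemb a, ← αmul, ← αmul, (lc a ha).eq]) with h | h
    · exact absurd (αinj (h.trans αone.symm)) l1
    · exact h
  have αid : ∀ π, α π = π := by
    let S : Subgroup A9 :=
      { carrier := {π | α π = π}
        one_mem' := αone
        mul_mem' := fun {a b} ha hb => by
          show α (a * b) = a * b
          rw [αmul, ha, hb]
        inv_mem' := fun {a} ha => by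
          show α a⁻¹ = a⁻¹
          have := αmul a⁻¹ a
          rw [inv_mul_cancel, αone, ha] at this
          exact eq_inv_of_mul_eq_one_left this.symm }
    have : (⊤ : Subgroup A9) ≤ S := by
      rw [← closure9, closure_le]
      rintro _ ⟨i, rfl⟩
      induction i using Fin.lastCases with
      | last => show α _ = _; rw [gens9_last, αlast]
      | cast i => show α _ = _; rw [gens9_emb, αemb]
    exact fun π => this (mem_top π)
  have fixed : ∀ y : ↥p.Cw, ∃ k : ℕ, Commute ((y : G) * p.w ^ k) p.τ := by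
    intro y
    have h0 := αmk (e.symm (mk y)) y (e.apply_symm_apply _).symm
    rw [αid, e.apply_symm_apply] at h0
    obtain ⟨m, hm⟩ := p.mem_Wn.mp (QuotientGroup.eq.mp h0)
    have hm' : p.τ * (y : G) * p.τ⁻¹ = (y : G) * p.w ^ m := by
      rw [hm]
      simp [tw]
    refine ⟨2 * m, mul_inv_eq_iff_eq_mul.mp ?_ |>.symm⟩
    rw [show p.τ * ((y : G) * p.w ^ (2 * m)) * p.τ⁻¹ = p.τ * (y : G) * p.τ⁻¹ * (p.τ * p.w ^ (2 * m) * p.τ⁻¹) by group,
      hm', tinvw, mul_assoc, ← pow_add]
    exact congrArg _ (p.w_mod (by omega))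
  let S := centralizer ({p.w, p.τ} : Set G)
  have hS : ∀ y, y ∈ S ↔ Commute y p.w ∧ Commute y p.τ := fun y => by
    simp only [S, mem_centralizer_iff, Set.mem_insert_iff, Set.mem_singleton_iff, forall_eq_or_imp, forall_eq,
      commute_iff_eq]
    exact ⟨fun h => ⟨h.1.symm, h.2.symm⟩, fun h => ⟨h.1.symm, h.2.symm⟩⟩
  let q : ↥S →* A9 := e.symm.toMonoidHom.comp (mk.comp (Subgroup.inclusion fun y hy =>
    mem_centralizer_singleton_iff.mpr ((hS y).mp hy).1))
  have qinj : Function.Injective q := (injective_iff_map_eq_one q).mpr fun y hy => by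
    have h1 : mk ⟨(y : G), mem_centralizer_singleton_iff.mpr ((hS y).mp y.2).1⟩ = 1 :=
      e.symm.injective (hy.trans (map_one e.symm).symm)
    obtain ⟨k, hk⟩ := p.mem_Wn.mp ((QuotientGroup.eq_one_iff _).mp h1)
    have hk' : p.w ^ k = (y : G) := hk
    have hc := mul_inv_eq_iff_eq_mul.mpr ((hS y).mp y.2).2.symm.eq
    rw [← hk', tinvw] at hc
    refine Subtype.ext ?_
    rw [OneMemClass.coe_one, ← hk', ← pow_zero p.w]
    exact p.w_mod (by have := p.w_eq hc; omega)
  have qsurj : Function.Surjective q := fun π => by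
    obtain ⟨y, hy⟩ := QuotientGroup.mk'_surjective p.Wn (e π)
    obtain ⟨k, hk⟩ := fixed y
    refine ⟨⟨(y : G) * p.w ^ k, (hS _).mpr ⟨Commute.mul_left (mem_centralizer_singleton_iff.mp y.2 : Commute (y : G) p.w)
      ((Commute.refl p.w).pow_left k), hk⟩⟩, e.injective ?_⟩
    show e (e.symm _) = e π
    rw [e.apply_symm_apply, ← hy]
    refine QuotientGroup.eq.mpr (p.mem_Wn.mpr ⟨2 * k, ?_⟩)
    show p.w ^ (2 * k) = ((y : G) * p.w ^ k)⁻¹ * y
    rw [mul_inv_rev, inv_mul_cancel_right, eq_inv_iff_mul_eq_one, ← pow_add, show 2 * k + k = 3 * k by ring, pow_mul,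
      p.w_pow3, one_pow]
  let ψ := (MulEquiv.ofBijective q ⟨qinj, qsurj⟩).symm
  refine ⟨S.subtype.comp ψ.toMonoidHom, S.subtype_injective.comp ψ.injective, fun π => ?_, fun π => (hS _).mp (ψ π).2,
    fun y hy => ?_⟩
  · have h1 : p.iota8 π ∈ S := (hS _).mpr ⟨p.iota8_w π, p.iota8_t π⟩
    have h2 : q ⟨_, h1⟩ = emb π := e.injective (by
      rw [he]
      exact e.apply_symm_apply _)
    show ((ψ (emb π) : ↥S) : G) = p.iota8 π
    rw [← h2, show q ⟨_, h1⟩ = MulEquiv.ofBijective q ⟨qinj, qsurj⟩ ⟨_, h1⟩ from rfl, MulEquiv.symm_apply_apply]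
  · obtain ⟨k, hk⟩ := fixed ⟨y, mem_centralizer_singleton_iff.mpr hy⟩
    have hm : y * p.w ^ k ∈ S := (hS _).mpr ⟨hy.mul_left ((Commute.refl p.w).pow_left k), hk⟩
    obtain ⟨π, hπ⟩ := ψ.surjective ⟨_, hm⟩
    refine ⟨2 * k, π, ?_⟩
    show y = p.w ^ (2 * k) * ((ψ π : ↥S) : G)
    rw [hπ]
    show y = p.w ^ (2 * k) * (y * p.w ^ k)
    rw [← mul_assoc, ← (hy.pow_right (2 * k)).eq, mul_assoc, ← pow_add, show 2 * k + k = 3 * k by ring, pow_mul,
      p.w_pow3, one_pow, mul_one]

/-- A product decomposition of the normalizer. -/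
theorem normalizer_iso : Nonempty (↥(normalizer (zpowers p.w : Set G)) ≃* Equiv.Perm (Fin 3) × A9) := by
  classical
  obtain ⟨φ0, φinj, -, φcomm, φgen⟩ := p.exists_s9
  have tinvw : ∀ k : ℕ, p.τ * p.w ^ k * p.τ⁻¹ = p.w ^ (2 * k) := fun k => mul_inv_eq_iff_eq_mul.mpr (p.t_pow k)
  let S := centralizer ({p.w, p.τ} : Set G)
  have hS : ∀ y, y ∈ S ↔ Commute y p.w ∧ Commute y p.τ := fun y => by
    simp only [S, mem_centralizer_iff, Set.mem_insert_iff, Set.mem_singleton_iff, forall_eq_or_imp, forall_eq,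
      commute_iff_eq]
    exact ⟨fun h => ⟨h.1.symm, h.2.symm⟩, fun h => ⟨h.1.symm, h.2.symm⟩⟩
  let φ : A9 →* ↥S := φ0.codRestrict S fun π => (hS _).mpr (φcomm π)
  have φi : Function.Injective φ := fun a b h => φinj (congrArg Subtype.val h)
  have hcomm : ∀ (σ : Equiv.Perm (Fin 3)) (π : A9), Commute (p.three σ) (φ π : G) := fun σ π => by
    obtain ⟨h1, h2⟩ := (hS _).mp (φ π).2
    refine (h1.symm.pow_left _).mul_left ?_
    cases sExp σ
    · exact Commute.one_left _
    · exact h2.symm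
  let Ψ : Equiv.Perm (Fin 3) × A9 →* G :=
    MonoidHom.mk' (fun u => p.three u.1 * (φ u.2 : G)) fun a b => by
      show p.three (a.1 * b.1) * ((φ (a.2 * b.2) : ↥S) : G) = _
      rw [p.three_mul, map_mul, Subgroup.coe_mul, (hcomm b.1 a.2).symm.mul_mul_mul_comm]
  have Ψinj : Function.Injective Ψ := (injective_iff_map_eq_one Ψ).mpr fun ⟨σ, π⟩ h => by
    have h' : p.three σ * (φ π : G) = 1 := h
    have hσS : p.three σ ∈ S := by rw [eq_inv_of_mul_eq_one_left h']; exact inv_mem (φ π).2
    have hσ : σ = 1 := by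
      obtain ⟨h1, h2⟩ := (hS _).mp hσS
      unfold three at h1 h2
      cases hs : sExp σ with
      | true =>
        rw [hs, cond_true] at h1
        exfalso
        have hc : Commute p.τ p.w := by
          have := (((Commute.refl p.w).pow_left (rExp σ)).inv_left).mul_left h1
          rwa [inv_mul_cancel_left] at this
        have hinv := p.inv
        rw [hc.eq, mul_inv_cancel_right] at hinv
        have := p.w_eq (a := 2) (b := 0) (by rw [pow_zero, pow_two]; exact mul_eq_one_iff_eq_inv.mpr hinv)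
        simp at this
      | false =>
        rw [hs, cond_false, mul_one] at h2
        have hc := mul_inv_eq_iff_eq_mul.mpr h2.symm.eq
        rw [tinvw] at hc
        have := p.w_eq hc
        exact (three_law σ 1).2.2 (by omega) hs
    subst hσ
    have h1 : p.three 1 = 1 := by
      have := p.three_mul 1 1
      rw [one_mul] at this
      exact left_eq_mul.mp this
    rw [h1, one_mul] at h'
    exact Prod.ext rfl (φi ((Subtype.ext h').trans (map_one φ).symm))
  have norm_w : ∀ n : G, n * p.w * n⁻¹ = p.w ∨ n * p.w * n⁻¹ = p.w⁻¹ → n ∈ normalizer (zpowers p.w : Set G) := by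
    intro n hn
    rw [mem_normalizer_iff_map_conj_eq, MonoidHom.map_zpowers]
    rcases hn with h | h
    · exact congrArg zpowers h
    · show zpowers (n * p.w * n⁻¹) = zpowers p.w
      rw [h, zpowers_inv]
  have Ψrange : Ψ.range = normalizer (zpowers p.w : Set G) := by
    refine le_antisymm ?_ fun n hn => ?_
    · rintro _ ⟨⟨σ, π⟩, rfl⟩
      refine mul_mem (mul_mem (pow_mem (norm_w _ (Or.inl (mul_inv_cancel_right _ _))) _) ?_)
        (norm_w _ (Or.inl (mul_inv_eq_iff_eq_mul.mpr ((hS _).mp (φ π).2).1.eq)))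
      cases sExp σ
      · exact one_mem _
      · exact norm_w _ (Or.inr p.inv)
    · have cw : ∀ y : G, Commute y p.w → y ∈ Ψ.range := by
        intro y hy
        obtain ⟨k, π, hk⟩ := φgen y hy
        obtain ⟨σ, hσs, hσr⟩ : ∃ σ : Equiv.Perm (Fin 3), sExp σ = false ∧ rExp σ % 3 = k % 3 := by
          have hall : ∀ r < 3, ∃ σ : Equiv.Perm (Fin 3), sExp σ = false ∧ rExp σ % 3 = r := by decide +kernel
          exact hall _ (Nat.mod_lt _ (by norm_num))
        refine ⟨⟨σ, π⟩, ?_⟩
        show p.w ^ rExp σ * (bif sExp σ then p.τ else 1) * φ0 π = y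
        rw [hσs, cond_false, mul_one, p.w_mod hσr, hk]
      have ht : p.τ ∈ Ψ.range := by
        obtain ⟨σ, hs, hr⟩ : ∃ σ : Equiv.Perm (Fin 3), sExp σ = true ∧ rExp σ = 0 := by decide +kernel
        refine ⟨⟨σ, 1⟩, ?_⟩
        show p.three σ * ((φ 1 : ↥S) : G) = p.τ
        unfold three
        rw [hs, hr, pow_zero, cond_true, one_mul, map_one, OneMemClass.coe_one, mul_one]
      have hc : n * p.w * n⁻¹ ∈ zpowers p.w := (mem_normalizer_iff.mp hn _).mp (mem_zpowers _)
      obtain ⟨k, hk⟩ := (Submonoid.mem_powers_iff _ _).mp (mem_powers_iff_mem_zpowers.mpr hc)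
      obtain ⟨r, hr, e3⟩ : ∃ r < 3, p.w ^ k = p.w ^ r := ⟨k % 3, Nat.mod_lt _ (by norm_num), p.w_mod (Nat.mod_mod k 3).symm⟩
      rw [e3] at hk
      interval_cases r
      · rw [pow_zero] at hk
        exact absurd (conj_eq_one_iff.mp hk.symm) p.w_ne
      · rw [pow_one] at hk
        exact cw n (mul_inv_eq_iff_eq_mul.mp hk.symm)
      · have hh : Commute (n * p.τ) p.w := mul_inv_eq_iff_eq_mul.mp (by
          rw [show n * p.τ * p.w * (n * p.τ)⁻¹ = n * (p.τ * p.w * p.τ⁻¹) * n⁻¹ by group, p.inv,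
            show n * p.w⁻¹ * n⁻¹ = (n * p.w * n⁻¹)⁻¹ by group, ← hk, inv_eq_iff_eq_inv, p.winv, pow_two])
        have := mul_mem (cw _ hh) ht
        rwa [mul_assoc, p.tt, mul_one] at this
  exact ⟨((MonoidHom.ofInjective Ψinj).trans (MulEquiv.subgroupCongr Ψrange)).symm⟩

end Tri

namespace Fr

/-- A subgroup of order three with normalizer the product of two symmetric and alternating groups. -/
theorem exists_nine (p : Fr z) : ∃ W : Subgroup G, Nat.card W = 3 ∧
    Nonempty (↥(normalizer (W : Set G)) ≃* Equiv.Perm (Fin 3) × alternatingGroup (Fin 9)) := by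
  obtain ⟨t⟩ := p.exists_tri
  exact ⟨zpowers t.w, by rw [Nat.card_zpowers, t.w_order], t.normalizer_iso⟩

end Fr

end Cfsg.Lib.ConwayType
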