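import Cfsg.Agent.ConwayType.Locals.Three.Eight

/-!
The centralizer of the element of order three and the double transposition, and the separation of the two classes of
involutions.
-/

set_option autoImplicit false
set_option synthInstance.maxSize 4096
set_option maxRecDepth 100000
set_option maxHeartbeats 1000000
set_option linter.unusedSectionVars false
set_option linter.style.haveILetI false

namespace Cfsg.Lib.ConwayType

open Subgroup Cfsg.Lib.ConwayType.Local Cfsg.Lib.ConwayType.Dod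
open Cfsg.Lib.ConwayType.Alt9 (A8)

universe u

variable {G : Type u} [Group G] [Finite G] {z : G}

namespace Tri

open Cfsg.Lib.ConwayType.Tri

theorem e0_values : ∀ i : Fin 8, (Alt9.e0 : Equiv.Perm (Fin 8)) i = img8 [1, 0, 3, 2, 5, 4, 7, 6] i ∧
    (img8 [1, 0, 3, 2, 5, 4, 7, 6] i).val / 2 = i.val / 2 := by decide +kernel

/-- The values of a permutation commuting with the double transposition are listed. -/
theorem mem_pairPerms {π : A8} (h : Commute π Alt9.e0) :
    (List.finRange 8).map (π : Equiv.Perm (Fin 8)) ∈ pairPerms := by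
  set f := (π : Equiv.Perm (Fin 8))
  have hodd : ∀ i, f (img8 [1, 0, 3, 2, 5, 4, 7, 6] i) = img8 [1, 0, 3, 2, 5, 4, 7, 6] (f i) := fun i => by
    rw [← (e0_values i).1, ← (e0_values (f i)).1]
    exact Alt9.commute_apply h i
  have hne : ∀ a b : Fin 8, a.val / 2 ≠ b.val / 2 → (f a).val / 2 ≠ (f b).val / 2 := by
    intro a b hab e
    have e' := ((by decide +kernel : ∀ x y : Fin 8, x.val / 2 = y.val / 2 →
      x = y ∨ img8 [1, 0, 3, 2, 5, 4, 7, 6] x = y) (f a) (f b) e)
    rcases e' with e' | e'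
    · exact hab (by rw [f.injective e'])
    · rw [← hodd] at e'
      exact hab (by rw [← f.injective e', (e0_values a).2])
  simp only [pairPerms, List.mem_flatMap, List.mem_map, List.mem_filter, List.mem_finRange, true_and, bne_iff_ne,
    Bool.and_eq_true]
  refine ⟨f 0, f 2, hne 2 0 (by decide), f 4, ⟨hne 4 0 (by decide), hne 4 2 (by decide)⟩, f 6,
    ⟨⟨hne 6 0 (by decide), hne 6 2 (by decide)⟩, hne 6 4 (by decide)⟩, List.map_congr_left fun i _ => ?_⟩
  fin_cases i
  exacts [rfl, (hodd 0).symm, rfl, (hodd 2).symm, rfl, (hodd 4).symm, rfl, (hodd 6).symm]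

theorem img8_map (π : A8) (i : Fin 8) :
    img8 ((List.finRange 8).map (π : Equiv.Perm (Fin 8))) i = (π : Equiv.Perm (Fin 8)) i := by
  rw [img8, List.getD_eq_getElem _ _ (by simp), List.getElem_map, List.getElem_finRange]
  rfl

/-- An element of order three centralizing the double transposition centralizes no four-group with it. -/
theorem no_four {c v : A8} (hc : Commute c Alt9.e0) (hv : Commute v Alt9.e0) (c3 : c * c * c = 1) (c1 : c ≠ 1)
    (vv : v * v = 1) (hcv : Commute c v) : v = 1 ∨ v = Alt9.e0 := by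
  have h := List.all_eq_true.mp three_no_four _ (mem_pairPerms hc)
  simp only [img8_map, Bool.or_eq_true, List.all_eq_true, List.mem_finRange, true_imp_iff, beq_iff_eq,
    Bool.not_eq_true', List.any_eq_true, true_and] at h
  rcases h with (h | h) | h
  · exact absurd (Subtype.ext (Equiv.ext h)) c1
  · rw [List.all_eq_false] at h
    obtain ⟨i, -, hi⟩ := h
    exact absurd (beq_iff_eq.mpr (congrArg (fun q : A8 => (q : Equiv.Perm (Fin 8)) i) c3)) hi
  · have h' := h _ (mem_pairPerms hv)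
    simp only [img8_map] at h'
    rcases h' with ((h' | h') | h') | ⟨k, hk⟩
    · rw [List.all_eq_false] at h'
      obtain ⟨i, -, hi⟩ := h'
      refine absurd ?_ hi
      rw [Bool.and_eq_true, beq_iff_eq, beq_iff_eq]
      exact ⟨congrArg (fun q : A8 => (q : Equiv.Perm (Fin 8)) i) vv, Alt9.commute_apply hcv i⟩
    · exact Or.inl (Subtype.ext (Equiv.ext h'))
    · exact Or.inr (Subtype.ext (Equiv.ext fun i => (h' i).trans (e0_values i).1.symm))
    · exfalso
      have hs := Equiv.Perm.mem_alternatingGroup.mp v.2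
      rcases hk with hk | hk
      · rw [show (v : Equiv.Perm (Fin 8)) = pairSwap k from Equiv.ext hk] at hs
        clear hk; revert hs; revert k; decide +kernel
      · rw [show (v : Equiv.Perm (Fin 8)) = (Alt9.e0 : Equiv.Perm (Fin 8)) * pairSwap k from
          Equiv.ext fun i => (hk i).trans (e0_values _).1.symm] at hs
        clear hk; revert hs; revert k; decide +kernel

variable (p : Tri z)

theorem pow_T {k : ℕ} (h : p.w ^ k ∈ p.toPt.Tg) : p.w ^ k = 1 := by
  obtain ⟨m1, m2, -, -⟩ := p.moves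
  obtain ⟨n1, n2, -⟩ := p.toPt.zs_ne
  obtain ⟨r, hr, e⟩ : ∃ r < 3, p.w ^ k = p.w ^ r :=
    ⟨k % 3, Nat.mod_lt _ (by norm_num), by rw [← pow_mod_orderOf, p.w_order]⟩
  rw [e] at h ⊢
  have hz := mul_inv_eq_iff_eq_mul.mpr (p.toPt.mem_Tg.mp h).1
  interval_cases r
  · simp
  · rw [pow_one, m1] at hz; exact absurd hz p.toPt.s_ne.2
  · rw [show p.w ^ 2 * z * (p.w ^ 2)⁻¹ = p.w * (p.w * z * p.w⁻¹) * p.w⁻¹ by rw [pow_two]; group, m1, m2] at hz
    exact absurd hz n2

/-- The decomposition of an element of the direct product is unique. -/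
theorem decomp_unique {k l : ℕ} {π ρ : A8} (e : p.w ^ k * p.iota8 π = p.w ^ l * p.iota8 ρ) :
    p.w ^ k = p.w ^ l ∧ π = ρ := by
  obtain ⟨m, hm⟩ : ∃ m, p.w ^ m = (p.w ^ l)⁻¹ * p.w ^ k := by
    refine ⟨2 * l + k, ?_⟩
    rw [pow_add, eq_inv_mul_iff_mul_eq, ← mul_assoc, ← pow_add, show l + 2 * l = 3 * l by ring, pow_mul, p.w_pow3,
      one_pow, one_mul]
  have e' : p.w ^ m = p.iota8 ρ * (p.iota8 π)⁻¹ := by
    rw [hm, eq_mul_inv_iff_mul_eq, mul_assoc, e, inv_mul_cancel_left]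
  have h1 := p.pow_T (e' ▸ mul_mem (p.iota8_T ρ) (inv_mem (p.iota8_T π)))
  rw [h1] at e' hm
  exact ⟨(inv_mul_eq_one.mp hm.symm).symm, (p.iota8_inj (mul_inv_eq_one.mp e'.symm)).symm⟩

theorem iota8_pow_comm (π : A8) (k : ℕ) : Commute (p.iota8 π) (p.w ^ k) := (p.iota8_w π).pow_right k

/-- The centralizer of the element of order three and the dodecad. -/
theorem cent_e1 {y : G} (hy : Commute y p.w) (he : Commute y (p.toFr.ev e1)) :
    ∃ k π, y = p.w ^ k * p.iota8 π ∧ Commute π Alt9.e0 := by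
  obtain ⟨n, hn, hN, f1, f2, hW⟩ := p.exists_mover
  obtain ⟨M, hM, hmy⟩ := p.small_list hn f1 f2 hW hy he
  have h := List.all_eq_true.mp power_part M hM
  simp only [List.any_eq_true, Bool.and_eq_true, beq_iff_eq] at h
  obtain ⟨k, hk, h1, h2⟩ := h
  have hlen : mW68.length = 11 := by decide +kernel
  have hidx : p.toFr.Maps (n * p.w ^ k * n⁻¹) (idx3 k) := by
    simp only [List.mem_cons, List.not_mem_nil, or_false] at hk
    rcases hk with rfl | rfl | rfl
    · rw [pow_zero, mul_one, mul_inv_cancel]; exact p.toFr.maps_one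
    · rw [pow_one]; exact hW
    · rw [pow_two, show n * (p.w * p.w) * n⁻¹ = n * p.w * n⁻¹ * (n * p.w * n⁻¹) by group]
      exact hW.mul hW hlen
  have agree : ∀ x, lap M (lap mN x) = lap (idx3 k) (lap mN x) → Commute ((p.w ^ k)⁻¹ * y) (p.toFr.ev x) := by
    intro x hx
    have a := hmy.ev (x := lap mN x)
    have b := hidx.ev (x := lap mN x)
    rw [hx, ← b, ← hN.ev] at a
    refine mul_inv_eq_iff_eq_mul.mp ?_
    rw [show n * y * n⁻¹ * (n * p.toFr.ev x * n⁻¹) * (n * y * n⁻¹)⁻¹ = n * (y * p.toFr.ev x * y⁻¹) * n⁻¹ by group,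
      show n * p.w ^ k * n⁻¹ * (n * p.toFr.ev x * n⁻¹) * (n * p.w ^ k * n⁻¹)⁻¹ =
        n * (p.w ^ k * p.toFr.ev x * (p.w ^ k)⁻¹) * n⁻¹ by group] at a
    rw [show (p.w ^ k)⁻¹ * y * p.toFr.ev x * ((p.w ^ k)⁻¹ * y)⁻¹ =
      (p.w ^ k)⁻¹ * (y * p.toFr.ev x * y⁻¹) * p.w ^ k by group, mul_left_cancel (mul_right_cancel a)]
    group
  have hz := agree 1 h1
  have hs := agree 2 h2
  rw [p.toFr.ev_z] at hz
  rw [p.toFr.ev_s] at hs
  obtain ⟨π, hπ⟩ := p.iota8_range (p.mem_L8.mpr ⟨p.toPt.mem_Tg.mpr ⟨hz, hs⟩,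
    ((Commute.refl p.w).pow_left k).inv_left.mul_left hy⟩)
  refine ⟨k, π, by rw [hπ, mul_inv_cancel_left], ?_⟩
  refine p.iota8_inj ?_
  rw [map_mul, map_mul, hπ, p.iota8_e0]
  exact ((((p.e1_w).symm.pow_left k).inv_left).mul_left he).eq

/-- An element of the centralizer conjugates no k-type involution to the double transposition. -/
theorem not_fused8 {g : G} (hg : Commute g p.w) (e : g * p.iota8 Alt9.k1 * g⁻¹ = p.toFr.ev e1) : False := by
  obtain ⟨hk12, hka, hkk, haaa, hane, hk2e, hk2, hk21⟩ :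
      Commute Alt9.k1 Alt9.k2 ∧ Commute Alt9.k1 Alt9.aE ∧ Alt9.k2 * Alt9.k2 = 1 ∧
        Alt9.aE * Alt9.aE * Alt9.aE = 1 ∧ Alt9.aE ≠ 1 ∧ Commute Alt9.aE Alt9.k2 ∧ Alt9.k2 ≠ 1 ∧
          Alt9.k2 ≠ Alt9.k1 := by
    refine ⟨?_, ?_, ?_, ?_, ?_, ?_, ?_, ?_⟩
    all_goals
      first
        | (refine Alt9.eq_of_sameVal ?_; decide +kernel)
        | decide +kernel
  have img : ∀ x : A8, Commute Alt9.k1 x → ∃ k π, g * p.iota8 x * g⁻¹ = p.w ^ k * p.iota8 π ∧ Commute π Alt9.e0 := by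
    intro x hx
    refine p.cent_e1 ((hg.mul_left (p.iota8_w x)).mul_left hg.inv_left) ?_
    rw [← e]
    exact (Commute.conj_iff g).mpr ((hx.symm).map p.iota8)
  obtain ⟨k, v, hv, hve⟩ := img _ hk12
  obtain ⟨l, c, hc, hce⟩ := img _ hka
  have sqv : p.w ^ (k + k) * p.iota8 (v * v) = p.w ^ 0 * p.iota8 1 := by
    rw [pow_add, map_mul, (p.iota8_pow_comm v k).symm.mul_mul_mul_comm, ← hv,
      show g * p.iota8 Alt9.k2 * g⁻¹ * (g * p.iota8 Alt9.k2 * g⁻¹) = g * p.iota8 (Alt9.k2 * Alt9.k2) * g⁻¹ by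
        rw [map_mul]; group, hkk, map_one, mul_one, mul_inv_cancel, pow_zero, one_mul]
  obtain ⟨hk0, hvv⟩ := p.decomp_unique sqv
  have hw0 : p.w ^ k = 1 := by
    have h2 : p.w ^ (k + k) * p.w ^ (k + k) = 1 := by rw [hk0, pow_zero, one_mul]
    have h3 : p.w ^ (3 * k) = 1 := by rw [pow_mul, p.w_pow3, one_pow]
    rw [← pow_add, show k + k + (k + k) = 3 * k + k by ring, pow_add, h3, one_mul] at h2
    exact h2
  rw [hw0, one_mul] at hv
  have cube : p.w ^ (l + l + l) * p.iota8 (c * c * c) = p.w ^ 0 * p.iota8 1 := by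
    rw [pow_add, map_mul, (p.iota8_pow_comm (c * c) l).symm.mul_mul_mul_comm, pow_add, map_mul,
      (p.iota8_pow_comm c l).symm.mul_mul_mul_comm, ← hc,
      show g * p.iota8 Alt9.aE * g⁻¹ * (g * p.iota8 Alt9.aE * g⁻¹) * (g * p.iota8 Alt9.aE * g⁻¹) =
        g * p.iota8 (Alt9.aE * Alt9.aE * Alt9.aE) * g⁻¹ by rw [map_mul, map_mul]; group,
      haaa, map_one, mul_one, mul_inv_cancel, pow_zero, one_mul]
  obtain ⟨-, hccc⟩ := p.decomp_unique cube
  have hc1 : c ≠ 1 := fun hc1 => by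
    rw [hc1, map_one, mul_one] at hc
    refine hane (p.decomp_unique (k := 0) (l := l) (π := Alt9.aE) (ρ := 1) ?_).2
    rw [map_one, mul_one, pow_zero, one_mul,
      show p.iota8 Alt9.aE = g⁻¹ * (g * p.iota8 Alt9.aE * g⁻¹) * g by group, hc, mul_assoc, ← (hg.pow_right l).eq,
      inv_mul_cancel_left]
  have hcv : Commute c v := by
    refine (p.decomp_unique (k := l) (l := l) ?_).2
    rw [map_mul, map_mul, ← mul_assoc, ← hc, ← mul_assoc, ← (p.iota8_pow_comm v l).eq, mul_assoc (p.iota8 v), ← hc,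
      ← hv, show g * p.iota8 Alt9.aE * g⁻¹ * (g * p.iota8 Alt9.k2 * g⁻¹) = g * p.iota8 (Alt9.aE * Alt9.k2) * g⁻¹ by
        rw [map_mul]; group, hk2e.eq, map_mul]
    group
  rcases no_four hce hve hccc hc1 hvv hcv with h | h
  · rw [h, map_one] at hv
    exact hk2 (p.iota8_inj (by rw [map_one]; exact conj_eq_one_iff.mp hv))
  · rw [h, p.iota8_e0, ← e] at hv
    exact hk21 (p.iota8_inj (mul_left_cancel (mul_right_cancel hv)))

end Tri

end Cfsg.Lib.ConwayType
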