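import Cfsg.Agent.ConwayType.Locals.TriCheck
import Cfsg.Agent.ConwayType.Point
import Cfsg.Agent.ConwayType.Locals.Alt9.Nine

/-!
The alternating group of degree eight acting on the section.
-/

set_option autoImplicit false
set_option synthInstance.maxSize 4096
set_option maxRecDepth 100000
set_option maxHeartbeats 1000000
set_option linter.unusedSectionVars false
set_option linter.style.haveILetI false

namespace Cfsg.Lib.ConwayType.Tri

open Subgroup Equiv Cfsg.Lib.ConwayType.Code Cfsg.Lib.ConwayType.Dod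
open Cfsg.Lib.ConwayType.Alt9 (A8)

/-- The points of the section. -/
abbrev WT := {x : ℕ // x ∈ W}

/-- A subset moved by a permutation. -/
def mv (π : Perm (Fin 8)) (f : Fin 8 → Bool) : Fin 8 → Bool := fun i => f (π⁻¹ i)

/-- The image of a vector. -/
def hFun (π : Perm (Fin 8)) (w : ℕ) : ℕ := psi (mv π (sub w))

theorem mv_even (π : Perm (Fin 8)) {f : Fin 8 → Bool}
    (h : (Finset.univ.filter fun i => f i = true).card % 2 = 0) :
    (Finset.univ.filter fun i => mv π f i = true).card % 2 = 0 := by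
  rw [← h]
  congr 1
  refine Finset.card_bij (fun i _ => π⁻¹ i) (fun i hi => ?_) (fun i _ j _ e => π⁻¹.injective e) fun j hj => ?_
  · exact Finset.mem_filter.mpr ⟨Finset.mem_univ _, (Finset.mem_filter.mp hi).2⟩
  · refine ⟨π j, Finset.mem_filter.mpr ⟨Finset.mem_univ _, ?_⟩, by simp⟩
    have := (Finset.mem_filter.mp hj).2
    simpa [mv] using this

theorem hFun_mem (π : Perm (Fin 8)) {w : ℕ} (hw : w ∈ W) : hFun π w ∈ W :=
  ((psi_facts.2 _).2 (mv_even π (psi_facts.1 w hw).2)).1

theorem hFun_one {w : ℕ} (hw : w ∈ W) : hFun 1 w = w := by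
  rw [hFun, show mv 1 (sub w) = sub w from funext fun i => by simp [mv]]
  exact (psi_facts.1 w hw).1

theorem hFun_mul (π ρ : Perm (Fin 8)) {w : ℕ} (hw : w ∈ W) : hFun (π * ρ) w = hFun π (hFun ρ w) := by
  have hm : mv (π * ρ) (sub w) = mv π (mv ρ (sub w)) := funext fun i => by simp [mv, mul_inv_rev]
  rw [hFun, hm, hFun]
  rcases ((psi_facts.2 _).2 (mv_even ρ (psi_facts.1 w hw).2)).2 with h | h
  · rw [show sub (hFun ρ w) = mv ρ (sub w) from funext h]
  · rw [show sub (hFun ρ w) = fun i => !mv ρ (sub w) i from funext h, show mv π (fun i => !mv ρ (sub w) i) =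
      fun i => !mv π (mv ρ (sub w)) i from rfl]
    exact (psi_facts.2 _).1

/-- The action on the section. -/
def hPerm (π : Perm (Fin 8)) : Perm WT where
  toFun w := ⟨hFun π w, hFun_mem π w.2⟩
  invFun w := ⟨hFun π⁻¹ w, hFun_mem _ w.2⟩
  left_inv w := Subtype.ext (by
    show hFun π⁻¹ (hFun π w) = w
    rw [← hFun_mul _ _ w.2, inv_mul_cancel, hFun_one w.2])
  right_inv w := Subtype.ext (by
    show hFun π (hFun π⁻¹ w) = w
    rw [← hFun_mul _ _ w.2, mul_inv_cancel, hFun_one w.2])

/-- The action of the alternating group. -/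
def hom8 : A8 →* Perm WT where
  toFun π := hPerm (π : Perm (Fin 8))
  map_one' := Equiv.ext fun w => Subtype.ext (hFun_one w.2)
  map_mul' π ρ := Equiv.ext fun w => Subtype.ext (hFun_mul _ _ w.2)

theorem hom8_apply (π : A8) (w : WT) : (hom8 π w : ℕ) = hFun (π : Perm (Fin 8)) w := rfl

theorem hom8_e0 : ∃ w ∈ W, hFun (Alt9.e0 : Perm (Fin 8)) w ≠ w := by decide +kernel

theorem hom8_inj : Function.Injective hom8 := by
  haveI : IsSimpleGroup A8 := alternatingGroup.isSimpleGroup (by simp)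
  rw [← MonoidHom.ker_eq_bot_iff]
  refine hom8.normal_ker.eq_bot_or_eq_top.resolve_right fun h => ?_
  obtain ⟨w, hw, hne⟩ := hom8_e0
  exact hne (congrArg Subtype.val (congrArg (fun q : Perm WT => q ⟨w, hw⟩) (h.ge (mem_top Alt9.e0) : hom8 Alt9.e0 = 1)))

theorem psi_mv (π : Perm (Fin 8)) (f : Fin 8 → Bool) :
    psi (mv π f) = (List.finRange 8).foldr (fun i a => (bif f i then vPt.getD (π i).val 0 else 0) ^^^ a) 0 := by
  have key : ∀ (l : List (Fin 8)) (g : Fin 8 → ℕ),
      l.foldr (fun i a => g i ^^^ a) 0 = (l.map g).foldr (fun x a => x ^^^ a) 0 := fun l g => by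
    rw [List.foldr_map]
  have hp : ∀ {l l' : List ℕ}, l.Perm l' → l.foldr (fun x a => x ^^^ a) 0 = l'.foldr (fun x a => x ^^^ a) 0 := by
    intro l l' h
    induction h with
    | nil => rfl
    | cons x _ ih => simp only [List.foldr_cons, ih]
    | swap x y l => simp only [List.foldr_cons, ← Nat.xor_assoc, Nat.xor_comm y x]
    | trans _ _ ih ih' => exact ih.trans ih'
  rw [psi, key, key]
  refine hp ?_
  have hl : ((List.finRange 8).map π).Perm (List.finRange 8) :=
    (List.perm_ext_iff_of_nodup ((List.nodup_finRange 8).map π.injective) (List.nodup_finRange 8)).mpr fun i =>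
      ⟨fun _ => List.mem_finRange i, fun _ => List.mem_map.mpr ⟨π⁻¹ i, List.mem_finRange _, by simp⟩⟩
  refine (hl.symm.map _).trans (List.Perm.of_eq ?_)
  rw [List.map_map]
  exact List.map_congr_left fun i _ => by simp [mv]

/-- The generators of the stabiliser as even permutations. -/
def gen8 : Fin 4 → A8 :=
  ![Alt9.el (swap 3 6 * swap 4 5), Alt9.el (swap 0 4 * swap 1 6), Alt9.el (swap 2 4 * swap 3 7),
    Alt9.el (swap 0 5 * swap 1 4 * swap 2 3 * swap 6 7)]

/-- The first basic translation. -/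
def a2 : A8 := Alt9.el (swap 0 2 * swap 1 3 * swap 4 6 * swap 5 7)

/-- The second basic translation. -/
def a4 : A8 := Alt9.el (swap 0 4 * swap 1 5 * swap 2 6 * swap 3 7)

/-- The translation moving the first point to a given one. -/
def trE : Fin 8 → A8 := ![1, Alt9.e0, a2, Alt9.e0 * a2, a4, Alt9.e0 * a4, a2 * a4, Alt9.e0 * a2 * a4]

theorem gen8_values : ∀ k : Fin 4, ∀ i, (gen8 k : Perm (Fin 8)) i = img8 (pG.getD k.val []) i := by decide +kernel

theorem trE_values : ∀ j i : Fin 8, (trE j : Perm (Fin 8)) i = img8 (tr8.getD (fix8.idxOf (atPt j)) []) i := by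
  decide +kernel

theorem trE_regular : ∀ i j : Fin 8, (trE j : Perm (Fin 8)) i = (trE i : Perm (Fin 8)) j := by decide +kernel

theorem atPt_surj : ∀ x ∈ fix8, ∃ j, atPt j = x := by decide +kernel

theorem atPt_e1 : atPt 1 = e1 := by decide +kernel

/-- A permutation commuting with the translations is one of them. -/
theorem translation_of_comm {π : A8} (h : ∀ j, Commute π (trE j)) :
    π = trE ((π : Perm (Fin 8)) 0) := by
  refine Subtype.ext (Equiv.ext fun i => ?_)
  have h0 : (trE i : Perm (Fin 8)) 0 = i := (by decide +kernel : ∀ i, (trE i : Perm (Fin 8)) 0 = i) i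
  conv_lhs => rw [← h0]
  rw [Alt9.commute_apply (h i) 0, ← trE_regular]

theorem gen8_closure : closure (Set.range gen8) = (⊤ : Subgroup A8) := by
  refine eq_top_iff.mpr ?_
  rw [← Alt9.gens_closure, closure_le]
  rintro _ ⟨a, rfl⟩
  have hw : ∀ l : List ℕ, (∀ k ∈ l, k < g2.length) →
      ∃ y ∈ closure (Set.range gen8), ∀ i, (y : Perm (Fin 8)) i = wImg l i := by
    intro l
    induction l with
    | nil => exact fun _ => ⟨1, one_mem _, fun i => rfl⟩
    | cons k l ih =>
      intro hl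
      obtain ⟨y, hy, e⟩ := ih fun j hj => hl j (List.mem_cons_of_mem _ hj)
      have hk : k < 4 := hl k List.mem_cons_self
      refine ⟨gen8 ⟨k, hk⟩ * y, mul_mem (subset_closure ⟨_, rfl⟩) hy, fun i => ?_⟩
      show (gen8 ⟨k, hk⟩ : Perm (Fin 8)) ((y : Perm (Fin 8)) i) = _
      rw [e, gen8_values]
      rfl
  obtain ⟨hlen, hl, hv⟩ := moore_ok
  obtain ⟨y, hy, e⟩ := hw (wMoore.getD a.val []) fun k hk => hl _ (by
    rw [List.getD_eq_getElem _ _ (by rw [hlen]; exact a.isLt)]; exact List.getElem_mem _) k hk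
  have hg : ∀ a : Fin 6, ∀ i, (AltEightLocal.gens a : Perm (Fin 8)) i =
      img8 (([[1, 2, 0, 3, 4, 5, 6, 7], [1, 0, 3, 2, 4, 5, 6, 7],
        [1, 0, 2, 4, 3, 5, 6, 7], [1, 0, 2, 3, 5, 4, 6, 7], [1, 0, 2, 3, 4, 6, 5, 7], [1, 0, 2, 3, 4, 5, 7, 6]] :
          List (List (Fin 8))).getD a.val []) i := by decide +kernel
  have : AltEightLocal.gens a = y := Subtype.ext (Equiv.ext fun i => by rw [hg, e, hv])
  exact this ▸ hy

theorem hom8_gen (k : Fin 4) (w : WT) : (hom8 (gen8 k) w : ℕ) = nr (wact g2 [k.val] w) := by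
  rw [hom8_apply, hFun, psi_mv, (pG_ok k.val k.isLt).2 w w.2]
  simp only [gen8_values]

theorem hom8_trE (j : Fin 8) (w : WT) : (hom8 (trE j) w : ℕ) = nr (act (tWord (atPt j / 256)) w) := by
  rw [hom8_apply, hFun, psi_mv, (tr_ok.1 (atPt j) (tr_ok.2.1 j).1 w w.2)]
  simp only [trE_values]

end Cfsg.Lib.ConwayType.Tri
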